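import Mathlib.GroupTheory.PGroup
import Mathlib.GroupTheory.Commutator.Basic
import Mathlib.GroupTheory.GroupAction.SubMulAction
import Mathlib.Algebra.Group.Action.End
import Mathlib.Tactic.Group
import Mathlib.Tactic.Push

set_option autoImplicit false

namespace CfsgLib.KSteps

/-- A `p`-group acting on a nontrivial invariant finite `p`-subgroup fixes a nontrivial element of it. -/
theorem exists_fixed_mem {p : ℕ} [hp : Fact p.Prime] {P A : Type*} [Group P] [Group A]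
    [MulDistribMulAction P A] [Finite A] (hP : IsPGroup p P) (D : Subgroup A) (hD : IsPGroup p ↥D)
    (hne : D ≠ ⊥) (hinv : ∀ g : P, ∀ x ∈ D, g • x ∈ D) :
    ∃ b ∈ D, b ≠ 1 ∧ ∀ g : P, g • b = b := by
  let S : SubMulAction P A := ⟨(D : Set A), fun g x hx => hinv g x hx⟩
  have hcard : Nat.card S = Nat.card D := Nat.card_congr (Equiv.refl _)
  have hdvd : p ∣ Nat.card S := by
    rw [hcard]
    have : Nontrivial D := (Subgroup.nontrivial_iff_ne_bot D).2 hne
    obtain ⟨n, hn0, hn⟩ := hD.nontrivial_iff_card.mp inferInstance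
    exact hn.symm ▸ dvd_pow_self _ (ne_of_gt hn0)
  have h1 : (⟨1, D.one_mem⟩ : S) ∈ MulAction.fixedPoints P S := fun g => Subtype.ext (smul_one g)
  obtain ⟨b, hb, hne'⟩ :=
    hP.exists_fixed_point_of_prime_dvd_card_of_fixed_point S hdvd h1
  refine ⟨b.1, b.2, ?_, fun g => congrArg Subtype.val (hb g)⟩
  intro h
  exact hne' (Subtype.ext h.symm)

/-- A `p`-subgroup normalizing a nontrivial `p`-subgroup centralizes a nontrivial element of it. -/
theorem exists_fixed_of_normalizes {p : ℕ} [Fact p.Prime] {G : Type*} [Group G] [Finite G]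
    (P N : Subgroup G) (hP : IsPGroup p ↥P) (hN : IsPGroup p ↥N) (hne : N ≠ ⊥)
    (hinv : ∀ g ∈ P, ∀ x ∈ N, g * x * g⁻¹ ∈ N) :
    ∃ b ∈ N, b ≠ 1 ∧ ∀ g ∈ P, g * b = b * g := by
  let _ : MulDistribMulAction ↥P G := MulDistribMulAction.compHom G (MulAut.conj.comp P.subtype)
  obtain ⟨b, hb, hb1, hfix⟩ := exists_fixed_mem hP N hN hne (fun g x hx => hinv g.1 g.2 x hx)
  refine ⟨b, hb, hb1, fun g hg => ?_⟩
  have h : g * b * g⁻¹ = b := hfix ⟨g, hg⟩
  exact mul_inv_eq_iff_eq_mul.mp h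

/-- An automorphism `t` of `2`-power order of a finite commutative `2`-group with `C(t²) ≤ C(t)` is trivial. -/
theorem aut_fixes_all {A : Type*} [CommGroup A] [Finite A] (hA : IsPGroup 2 A) (t : MulAut A)
    (ht : IsPGroup 2 ↥(Subgroup.zpowers t)) (hC : ∀ a : A, t (t a) = a → t a = a) :
    ∀ a : A, t a = a := by
  let δ : A →* A :=
    { toFun := fun a => t a * a⁻¹
      map_one' := by simp
      map_mul' := fun a b => by simp only [map_mul, mul_inv, mul_mul_mul_comm] }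
  by_contra hcon
  push Not at hcon
  obtain ⟨a₀, ha₀⟩ := hcon
  have hne : δ.range ≠ ⊥ := by
    intro h
    have : δ a₀ ∈ δ.range := ⟨a₀, rfl⟩
    rw [h, Subgroup.mem_bot] at this
    exact ha₀ (mul_inv_eq_one.mp this)
  have hinv : ∀ g : Subgroup.zpowers t, ∀ x ∈ δ.range, g • x ∈ δ.range := by
    rintro ⟨g, n, rfl⟩ x ⟨a, rfl⟩
    refine ⟨(t ^ n) a, ?_⟩
    show t ((t ^ n) a) * ((t ^ n) a)⁻¹ = (t ^ n) (t a * a⁻¹)
    rw [map_mul, map_inv]
    have : t ((t ^ n) a) = (t ^ n) (t a) := by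
      rw [← MulAut.mul_apply, ← MulAut.mul_apply, ← zpow_one_add, ← zpow_add_one, add_comm]
    rw [this]
  obtain ⟨b, hb, hb1, hfix⟩ :=
    exists_fixed_mem ht δ.range (hA.to_subgroup _) hne hinv
  obtain ⟨k, hk⟩ := hA b
  classical
  have hex : ∃ j, b ^ (2 ^ j) = 1 := ⟨k, hk⟩
  have hj : Nat.find hex ≠ 0 := by
    intro h0
    have := Nat.find_spec hex
    rw [h0, pow_zero, pow_one] at this
    exact hb1 this
  obtain ⟨j, hj'⟩ := Nat.exists_eq_succ_of_ne_zero hj
  set c := b ^ (2 ^ j) with hc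
  have hc2 : c * c = 1 := by
    have := Nat.find_spec hex
    rw [hj', pow_succ, pow_mul, pow_two] at this
    exact this
  have hc1 : c ≠ 1 := Nat.find_min hex (by omega)
  obtain ⟨a, ha⟩ := (δ.range.pow_mem hb (2 ^ j) : c ∈ δ.range)
  have htc : t c = c := by
    have h : t b = b := hfix ⟨t, Subgroup.mem_zpowers t⟩
    rw [hc, map_pow, h]
  have hta : t a = c * a := by
    rw [hc, ← ha]
    show t a = t a * a⁻¹ * a
    rw [inv_mul_cancel_right]
  have h := hC a (by rw [hta, map_mul, htc, hta, ← mul_assoc, hc2, one_mul])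
  rw [hta] at h
  exact hc1 (mul_eq_right.mp h)

/-- If `B` normalizes `A`, meets it trivially, is at least as large and is TI, then `A` and `B` commute. -/
theorem commute_of_ti_normalizes {G : Type*} [Group G] [Finite G] (A B : Subgroup G)
    (hti : ∀ g ∈ A, B.map (MulAut.conj g).toMonoidHom = B ∨ B.map (MulAut.conj g).toMonoidHom ⊓ B = ⊥)
    (hle : Nat.card ↥A ≤ Nat.card ↥B) (hAB : A ⊓ B = ⊥)
    (hN : ∀ b ∈ B, ∀ x ∈ A, b * x * b⁻¹ ∈ A) :
    ∀ a ∈ A, ∀ b ∈ B, a * b = b * a := by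
  intro a ha b hb
  rcases eq_or_ne a 1 with rfl | ha1
  · simp
  have hnorm : B.map (MulAut.conj a).toMonoidHom = B := by
    refine (hti a ha).resolve_right fun hbot => ?_
    let f : ↥B × ↥B → ↥A × ↥B := fun p =>
      (⟨(p.1 : G) * a * (p.1 : G)⁻¹ * ((p.1 * p.2 : ↥B) * a⁻¹ * ((p.1 * p.2 : ↥B) : G)⁻¹),
        A.mul_mem (hN _ p.1.2 _ ha) (hN _ (p.1 * p.2).2 _ (A.inv_mem ha))⟩, p.1 * p.2)
    have hf : ∀ p : ↥B × ↥B, ((f p).1 : G) * ((f p).2 : G) = (p.1 : G) * (a * (p.2 : G) * a⁻¹) := by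
      intro p
      simp only [f, Subgroup.coe_mul]
      group
    have hinj : Function.Injective f := by
      rintro ⟨x, y⟩ ⟨x', y'⟩ h
      have h' := hf ⟨x, y⟩
      rw [h, hf] at h'
      simp only at h'
      have hmem : (x'⁻¹ * x : ↥B).1 ∈ B.map (MulAut.conj a).toMonoidHom ⊓ B := by
        refine Subgroup.mem_inf.2 ⟨⟨(y' * y⁻¹ : ↥B), (y' * y⁻¹).2, ?_⟩, (x'⁻¹ * x).2⟩
        simp only [Subgroup.coe_mul, Subgroup.coe_inv, MulEquiv.coe_toMonoidHom, MulAut.conj_apply]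
        calc a * ((y' : G) * (y : G)⁻¹) * a⁻¹
            = (x' : G)⁻¹ * ((x' : G) * (a * y' * a⁻¹)) * (a * (y : G) * a⁻¹)⁻¹ := by group
          _ = (x' : G)⁻¹ * ((x : G) * (a * y * a⁻¹)) * (a * (y : G) * a⁻¹)⁻¹ := by rw [h']
          _ = (x' : G)⁻¹ * x := by group
      rw [hbot, Subgroup.mem_bot] at hmem
      have hxx : x = x' := Subtype.ext (inv_mul_eq_one.mp hmem).symm
      subst hxx
      have h2 : (y' : G) = y := mul_left_cancel (mul_right_cancel (mul_left_cancel h'))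
      rw [Subtype.ext h2]
    have hbij := hinj.bijective_of_nat_card_le (by
      rw [Nat.card_prod, Nat.card_prod]; exact Nat.mul_le_mul_right _ hle)
    obtain ⟨p, hp⟩ := hbij.2 (⟨a⁻¹, A.inv_mem ha⟩, 1)
    have h := hf p
    rw [hp] at h
    simp only [Subgroup.coe_one, mul_one] at h
    have h1 : (1 : G) = (p.1 : G) * a * p.2 := by
      calc (1 : G) = a⁻¹ * a := by group
        _ = (p.1 : G) * (a * p.2 * a⁻¹) * a := congrArg (· * a) h
        _ = (p.1 : G) * a * p.2 := by group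
    have haB : a ∈ B := by
      have : a = (p.1 : G)⁻¹ * (p.2 : G)⁻¹ := by
        calc a = (p.1 : G)⁻¹ * ((p.1 : G) * a * p.2) * (p.2 : G)⁻¹ := by group
          _ = _ := by rw [← h1]; group
      rw [this]
      exact B.mul_mem (B.inv_mem p.1.2) (B.inv_mem p.2.2)
    exact ha1 (Subgroup.mem_bot.mp (hAB ▸ Subgroup.mem_inf.2 ⟨ha, haB⟩))
  have hc : a * b * a⁻¹ * b⁻¹ ∈ A ⊓ B := by
    refine Subgroup.mem_inf.2 ⟨?_, ?_⟩
    · have h := A.mul_mem ha (hN b hb a⁻¹ (A.inv_mem ha))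
      simpa [mul_assoc] using h
    · refine B.mul_mem ?_ (B.inv_mem hb)
      rw [← hnorm]
      exact ⟨b, hb, rfl⟩
  rw [hAB, Subgroup.mem_bot] at hc
  exact mul_inv_eq_iff_eq_mul.mp (mul_inv_eq_one.mp hc)

end CfsgLib.KSteps
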