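import Cfsg.Prelude.Def_ClassificationK
import Cfsg.Agent.Lib.Solvable.Core
import Cfsg.Agent.Lib.KSteps.Basic
import Mathlib.GroupTheory.SpecificGroups.Cyclic
import Mathlib.GroupTheory.IsPerfect

set_option autoImplicit false

namespace CfsgLib.KSteps

theorem isQuasisimple_congr {G H : Type*} [Group G] [Group H] (e : G ≃* H)
    (h : Cfsg.IsQuasisimple G) : Cfsg.IsQuasisimple H := by
  obtain ⟨hp, hs⟩ := h
  refine ⟨Group.IsPerfect.ofSurjective (f := e.toMonoidHom) e.surjective, ?_⟩
  have hcen : (Subgroup.center H).map e.symm.toMonoidHom = Subgroup.center G := by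
    ext x
    constructor
    · rintro ⟨y, hy, rfl⟩
      refine Subgroup.mem_center_iff.mpr fun z => ?_
      simpa using congrArg e.symm (Subgroup.mem_center_iff.mp hy (e z))
    · intro hx
      refine ⟨e x, Subgroup.mem_center_iff.mpr fun z => ?_, by simp⟩
      apply e.symm.injective
      simpa using Subgroup.mem_center_iff.mp hx (e.symm z)
  exact (QuotientGroup.congr _ _ e.symm hcen).isSimpleGroup

theorem layer_char (G : Type*) [Group G] : (Cfsg.layer G).Characteristic :=
  CfsgLib.Solvable.sSup_characteristic _ fun φ K hK =>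
    ⟨hK.1.map φ.surjective, isQuasisimple_congr (φ.subgroupMap K) hK.2⟩

theorem gfit_char (G : Type*) [Group G] : (Cfsg.generalizedFittingSubgroup G).Characteristic := by
  have h1 := layer_char G
  have h2 := CfsgLib.Solvable.fittingSubgroup_characteristic G
  rw [Subgroup.characteristic_iff_map_eq] at *
  intro φ
  rw [Cfsg.generalizedFittingSubgroup, Subgroup.map_sup, h1 φ, h2 φ]

theorem gfit_normal (G : Type*) [Group G] : (Cfsg.generalizedFittingSubgroup G).Normal := by
  have := gfit_char G
  infer_instance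

theorem center_le_gfit (G : Type*) [Group G] :
    Subgroup.center G ≤ Cfsg.generalizedFittingSubgroup G :=
  (CfsgLib.Solvable.center_le_fittingSubgroup G).trans le_sup_right

/-- A cyclic finite group has at most one involution. -/
theorem involution_eq_of_isCyclic {A : Type*} [Group A] [Finite A] [IsCyclic A] {x y : A}
    (hx : x ^ 2 = 1) (hy : y ^ 2 = 1) (hx1 : x ≠ 1) (hy1 : y ≠ 1) : x = y := by
  classical
  have := Fintype.ofFinite A
  by_contra hne
  have h := IsCyclic.card_pow_eq_one_le (α := A) (n := 2) (by norm_num)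
  have h3 : ({1, x, y} : Finset A) ⊆ Finset.univ.filter (fun a => a ^ 2 = 1) := by
    intro a ha
    simp only [Finset.mem_insert, Finset.mem_singleton] at ha
    rcases ha with rfl | rfl | rfl <;> simp [hx, hy]
  have hc : ({1, x, y} : Finset A).card = 3 := by
    simp [hne, Ne.symm hx1, Ne.symm hy1]
  have := (Finset.card_le_card h3).trans h
  omega

/-- In a group of symplectic type, a nontrivial characteristic commutative subgroup contains every
central involution. -/
theorem mem_of_symplecticType {T : Type*} [Group T] [Finite T] (hT : Cfsg.IsOfSymplecticType T)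
    (B : Subgroup T) (hc : B.Characteristic) (hne : B ≠ ⊥)
    {z : T} (hz : z ∈ Subgroup.center T) (hz2 : z ^ 2 = 1) (hz1 : z ≠ 1) : z ∈ B := by
  have hnm : B.Normal := inferInstance
  have : Fact (Nat.Prime 2) := ⟨Nat.prime_two⟩
  have : IsCyclic ↥(Subgroup.center T) := hT.2 _ inferInstance inferInstance
  obtain ⟨w, hw, hw1, hfix⟩ : ∃ b ∈ B, b ≠ 1 ∧ ∀ g : T, g * b = b * g := by
    obtain ⟨b, hb, hb1, hfix⟩ := exists_fixed_of_normalizes ⊤ B
      (hT.1.to_subgroup _) (hT.1.to_subgroup _) hne (fun g _ x hx => hnm.conj_mem x hx g)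
    exact ⟨b, hb, hb1, fun g => hfix g (Subgroup.mem_top g)⟩
  obtain ⟨k, hk⟩ := hT.1 w
  classical
  have hex : ∃ j, w ^ (2 ^ j) = 1 := ⟨k, hk⟩
  obtain ⟨j, hj⟩ : ∃ j, Nat.find hex = j + 1 := by
    refine Nat.exists_eq_succ_of_ne_zero fun h0 => hw1 ?_
    have := Nat.find_spec hex
    rwa [h0, pow_zero, pow_one] at this
  have hu2 : (w ^ (2 ^ j)) ^ 2 = 1 := by
    rw [← pow_mul, ← pow_succ, ← hj]; exact Nat.find_spec hex
  have hu1 : w ^ (2 ^ j) ≠ 1 := Nat.find_min hex (by omega)
  have hwc : w ^ (2 ^ j) ∈ Subgroup.center T :=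
    (Subgroup.center T).pow_mem (Subgroup.mem_center_iff.mpr hfix) _
  have : (⟨z, hz⟩ : ↥(Subgroup.center T)) = ⟨_, hwc⟩ :=
    involution_eq_of_isCyclic (Subtype.ext hz2) (Subtype.ext hu2)
      (fun h => hz1 (congrArg Subtype.val h)) (fun h => hu1 (congrArg Subtype.val h))
  rw [show z = w ^ (2 ^ j) from congrArg Subtype.val this]
  exact B.pow_mem hw _

end CfsgLib.KSteps
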