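import Cfsg.Prelude.Def_Transfer
import Mathlib.GroupTheory.Index
import Mathlib.GroupTheory.Abelianization.Defs
import Mathlib.Tactic.Group

set_option autoImplicit false

namespace CfsgLib.KSteps

variable {Q : Type*} [Group Q] [Finite Q]

theorem comm_mem_center (hc : commutator Q ≤ Subgroup.center Q) (a b : Q) :
    a * b * a⁻¹ * b⁻¹ ∈ Subgroup.center Q :=
  hc (Subgroup.commutator_mem_commutator (Subgroup.mem_top a) (Subgroup.mem_top b))

omit [Finite Q] in
theorem mul_self_eq_one_of_card_two (hZ : Nat.card ↥(Subgroup.center Q) = 2) {c : Q}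
    (h : c ∈ Subgroup.center Q) : c * c = 1 := by
  have h1 : (⟨c, h⟩ : ↥(Subgroup.center Q)) ^ 2 = 1 := hZ ▸ pow_card_eq_one'
  rw [pow_two] at h1
  exact congrArg Subtype.val h1

theorem eq_one_or_eq_of_card_two (hZ : Nat.card ↥(Subgroup.center Q) = 2) {c z : Q}
    (hc : c ∈ Subgroup.center Q) (hz : z ∈ Subgroup.center Q) (hz1 : z ≠ 1) : c = 1 ∨ c = z := by
  rcases (Nat.card_eq_two_iff' (1 : ↥(Subgroup.center Q))).mp hZ with ⟨y, -, huniq⟩
  by_cases h : c = 1
  · exact Or.inl h
  · have h1 := huniq ⟨c, hc⟩ (fun e => h (congrArg Subtype.val e))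
    have h2 := huniq ⟨z, hz⟩ (fun e => hz1 (congrArg Subtype.val e))
    exact Or.inr (congrArg Subtype.val (h1.trans h2.symm))

/-- Squares are central when commutators lie in a centre of order two. -/
theorem sq_mem_center (hZ : Nat.card ↥(Subgroup.center Q) = 2)
    (hc : commutator Q ≤ Subgroup.center Q) (b : Q) : b ^ 2 ∈ Subgroup.center Q := by
  refine Subgroup.mem_center_iff.mpr fun a => ?_
  have h := mul_self_eq_one_of_card_two hZ (comm_mem_center hc a b)
  have hcen := Subgroup.mem_center_iff.mp (comm_mem_center hc a b) b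
  have hab : a * b ^ 2 * a⁻¹ = b ^ 2 :=
    calc a * b ^ 2 * a⁻¹ = (a * b * a⁻¹ * b⁻¹) * (b * (a * b * a⁻¹ * b⁻¹)) * b := by rw [pow_two]; group
      _ = (a * b * a⁻¹ * b⁻¹) * (a * b * a⁻¹ * b⁻¹) * (b * b) := by rw [hcen]; group
      _ = b ^ 2 := by rw [h, one_mul, pow_two]
  exact mul_inv_eq_iff_eq_mul.mp hab

private theorem step (hZ : Nat.card ↥(Subgroup.center Q) = 2)
    (hc : commutator Q ≤ Subgroup.center Q) (K : Subgroup Q) {x : Q} (hx : x ∉ K) :
    Nat.card ↥(Subgroup.centralizer (K : Set Q)) * Nat.card ↥K ≤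
      Nat.card ↥(Subgroup.centralizer ((K ⊔ Subgroup.zpowers x : Subgroup Q) : Set Q)) *
        Nat.card ↥(K ⊔ Subgroup.zpowers x) := by
  set K' := K ⊔ Subgroup.zpowers x with hK'
  set C := Subgroup.centralizer (K : Set Q)
  set C' := Subgroup.centralizer (K' : Set Q)
  let f : ↥C →* ↥(Subgroup.center Q) :=
    { toFun := fun c => ⟨(c : Q) * x * (c : Q)⁻¹ * x⁻¹, comm_mem_center hc _ _⟩
      map_one' := Subtype.ext (by simp)
      map_mul' := fun c d => Subtype.ext (by
        have h : (c : Q) * ((d : Q) * x * (d : Q)⁻¹ * x⁻¹) = ((d : Q) * x * (d : Q)⁻¹ * x⁻¹) * c :=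
          Subgroup.mem_center_iff.mp (comm_mem_center hc (d : Q) x) c
        have h' : ((c : Q) * x * (c : Q)⁻¹ * x⁻¹) * ((d : Q) * x * (d : Q)⁻¹ * x⁻¹) =
            ((d : Q) * x * (d : Q)⁻¹ * x⁻¹) * ((c : Q) * x * (c : Q)⁻¹ * x⁻¹) :=
          (Subgroup.mem_center_iff.mp (comm_mem_center hc (d : Q) x) _)
        simp only [Subgroup.coe_mul]
        rw [h']
        calc ((c : Q) * d) * x * ((c : Q) * d)⁻¹ * x⁻¹
            = (c : Q) * ((d : Q) * x * (d : Q)⁻¹ * x⁻¹) * (x * (c : Q)⁻¹ * x⁻¹) := by group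
          _ = _ := by rw [h]; group) }
  have hker : f.ker.map C.subtype = C' := by
    ext c
    constructor
    · rintro ⟨d, hd, rfl⟩
      have hd' : (d : Q) * x = x * d :=
        mul_inv_eq_iff_eq_mul.mp (mul_inv_eq_one.mp (congrArg Subtype.val hd))
      refine Subgroup.mem_centralizer_iff.mpr fun y hy => ?_
      have : K' ≤ Subgroup.centralizer {(d : Q)} := sup_le
        (fun k hk => Subgroup.mem_centralizer_singleton_iff.mpr (Subgroup.mem_centralizer_iff.mp d.2 k hk))
        (Subgroup.zpowers_le.mpr (Subgroup.mem_centralizer_singleton_iff.mpr hd'.symm))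
      exact Subgroup.mem_centralizer_singleton_iff.mp (this hy)
    · intro hcc
      have h1 : c ∈ C := Subgroup.mem_centralizer_iff.mpr fun k hk =>
        Subgroup.mem_centralizer_iff.mp hcc k (Subgroup.mem_sup_left hk)
      refine ⟨⟨c, h1⟩, Subtype.ext ?_, rfl⟩
      have := Subgroup.mem_centralizer_iff.mp hcc x (Subgroup.mem_sup_right (Subgroup.mem_zpowers x))
      show c * x * c⁻¹ * x⁻¹ = 1
      rw [← this]
      group
  have hC : Nat.card ↥C ≤ Nat.card ↥C' * 2 := by
    have h1 := f.ker.card_mul_index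
    rw [Subgroup.index_ker, ← Subgroup.card_map_of_injective C.subtype_injective (K := f.ker), hker] at h1
    rw [← h1]
    exact Nat.mul_le_mul_left _ ((Subgroup.card_le_card_group _).trans_eq hZ)
  have hKlt : K < K' :=
    left_lt_sup.mpr fun h => hx (h (Subgroup.mem_zpowers x))
  have hK2 : Nat.card ↥K * 2 ≤ Nat.card ↥K' := by
    obtain ⟨m, hm⟩ := Subgroup.card_dvd_of_le hKlt.le
    rw [hm]
    refine Nat.mul_le_mul_left _ ?_
    rcases m with _ | _ | m
    · have := Nat.card_pos (α := ↥K'); omega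
    · exact absurd (Subgroup.eq_of_le_of_card_ge hKlt.le (by rw [hm]; simp)) hKlt.ne
    · omega
  calc Nat.card ↥C * Nat.card ↥K ≤ Nat.card ↥C' * 2 * Nat.card ↥K := Nat.mul_le_mul_right _ hC
    _ = Nat.card ↥C' * (Nat.card ↥K * 2) := by ring
    _ ≤ _ := Nat.mul_le_mul_left _ hK2

theorem centralizer_mul_card_mono (hZ : Nat.card ↥(Subgroup.center Q) = 2)
    (hc : commutator Q ≤ Subgroup.center Q) {K K' : Subgroup Q} (h : K ≤ K') :
    Nat.card ↥(Subgroup.centralizer (K : Set Q)) * Nat.card ↥K ≤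
      Nat.card ↥(Subgroup.centralizer (K' : Set Q)) * Nat.card ↥K' := by
  suffices ∀ n, ∀ K : Subgroup Q, K ≤ K' → Nat.card ↥K' ≤ Nat.card ↥K + n →
      Nat.card ↥(Subgroup.centralizer (K : Set Q)) * Nat.card ↥K ≤
        Nat.card ↥(Subgroup.centralizer (K' : Set Q)) * Nat.card ↥K' from
    this _ K h (Nat.le_add_left _ _)
  intro n
  induction n with
  | zero =>
    intro K h hn
    rw [Subgroup.eq_of_le_of_card_ge h hn]
  | succ n ih =>
    intro K h hn
    by_cases hK : K' ≤ K
    · rw [le_antisymm h hK]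
    obtain ⟨x, hx, hxK⟩ := SetLike.not_le_iff_exists.mp hK
    refine (step hZ hc K hxK).trans (ih _ (sup_le h (Subgroup.zpowers_le.mpr hx)) ?_)
    have hlt : Nat.card ↥K < Nat.card ↥(K ⊔ Subgroup.zpowers x) := by
      refine lt_of_le_of_ne (Subgroup.card_le_of_le le_sup_left) fun e => hxK ?_
      rw [Subgroup.eq_of_le_of_card_ge le_sup_left e.ge]
      exact Subgroup.mem_sup_right (Subgroup.mem_zpowers x)
    omega

/-- The symplectic duality `|C_Q(K)| |K| = 2 |Q|` for `Z(Q) ≤ K`. -/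
theorem centralizer_mul_card (hZ : Nat.card ↥(Subgroup.center Q) = 2)
    (hc : commutator Q ≤ Subgroup.center Q) {K : Subgroup Q} (hK : Subgroup.center Q ≤ K) :
    Nat.card ↥(Subgroup.centralizer (K : Set Q)) * Nat.card ↥K = 2 * Nat.card Q := by
  refine le_antisymm ?_ ?_
  · refine (centralizer_mul_card_mono hZ hc (le_top : K ≤ ⊤)).trans_eq ?_
    rw [Subgroup.coe_top, Subgroup.centralizer_univ, hZ, Subgroup.card_top]
  · refine le_trans (le_of_eq ?_) (centralizer_mul_card_mono hZ hc hK)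
    rw [Subgroup.centralizer_center, hZ, Subgroup.card_top, mul_comm]

/-- Double centralizer property in an extraspecial group. -/
theorem centralizer_centralizer_eq (hZ : Nat.card ↥(Subgroup.center Q) = 2)
    (hc : commutator Q ≤ Subgroup.center Q) {L : Subgroup Q} (hL : Subgroup.center Q ≤ L) :
    Subgroup.centralizer ((Subgroup.centralizer (L : Set Q) : Subgroup Q) : Set Q) = L := by
  have h1 := centralizer_mul_card hZ hc hL
  have h2 := centralizer_mul_card hZ hc
    (Subgroup.center_le_centralizer (L : Set Q) : Subgroup.center Q ≤ Subgroup.centralizer (L : Set Q))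
  refine (Subgroup.eq_of_le_of_card_ge ?_ ?_).symm
  · intro x hx
    exact Subgroup.mem_centralizer_iff.mpr fun y hy => (Subgroup.mem_centralizer_iff.mp hy x hx).symm
  · rw [mul_comm] at h1
    rw [← h1] at h2
    exact le_of_eq (Nat.eq_of_mul_eq_mul_right Nat.card_pos h2)

theorem extraspecial_data (h : Cfsg.IsExtraspecial 2 Q) :
    Nat.card ↥(Subgroup.center Q) = 2 ∧ commutator Q = Subgroup.center Q :=
  ⟨h.2, h.1.2.2⟩

end CfsgLib.KSteps
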