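import Mathlib.RingTheory.LittleWedderburn
import Mathlib.Algebra.Ring.Opposite
import Mathlib.Algebra.Ring.Prod
import Mathlib.GroupTheory.OrderOfElement
import Mathlib.Tactic.NoncommRing
import Mathlib.Tactic.Group

/-!
An additive subgroup of a finite ring of characteristic two which contains `1` and in which every
nonzero element has an inverse consists of pairwise commuting elements.
-/

set_option autoImplicit false

namespace CfsgLib.KSteps.Jordan

variable {E : Type*} [Ring E] (S : AddSubgroup E)

/-- The hypotheses on `S`. -/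
structure IsInvClosed : Prop where
  one_mem : (1 : E) ∈ S
  two : ∀ x : E, x + x = 0
  inv : ∀ s ∈ S, s ≠ 0 → ∃ t ∈ S, t * s = 1 ∧ s * t = 1

variable {S}

theorem IsInvClosed.neg_eq (h : IsInvClosed S) (x : E) : -x = x :=
  neg_eq_of_add_eq_zero_right (h.two x)

/-- Hua's identity: `S` is closed under `b ↦ a * b * a`. -/
theorem IsInvClosed.triple (h : IsInvClosed S) {a b : E} (ha : a ∈ S) (hb : b ∈ S) :
    a * b * a ∈ S := by
  by_cases ha0 : a = 0
  · simp [ha0, S.zero_mem]
  by_cases hb0 : b = 0
  · simp [hb0, S.zero_mem]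
  obtain ⟨a', ha', ha1, ha2⟩ := h.inv a ha ha0
  obtain ⟨b', hb', hb1, hb2⟩ := h.inv b hb hb0
  by_cases hd : b' + a = 0
  · have : a = b' := by rw [← h.neg_eq b']; exact eq_neg_of_add_eq_zero_right hd
    rw [this, hb1, one_mul]
    exact hb'
  obtain ⟨d', hd', hd1, hd2⟩ := h.inv _ (S.add_mem hb' ha) hd
  have he : a' + d' = a' * b' * d' := by
    have h1 : a' * b' * d' = a' * (b' + a) * d' - a' * a * d' := by noncomm_ring
    rw [h1, mul_assoc a' (b' + a) d', hd2, ha1, mul_one, one_mul, sub_eq_add_neg, h.neg_eq]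
  have hinv : (a + a * b * a) * (a' + d') = 1 := by
    have h2 : a + a * b * a = (b' + a) * b * a := by rw [add_mul, add_mul, hb1, one_mul]
    rw [he, h2]
    calc (b' + a) * b * a * (a' * b' * d') = (b' + a) * (b * ((a * a') * b') * d') := by noncomm_ring
      _ = 1 := by rw [ha2, one_mul, hb2, one_mul, hd2]
  have hne : a' + d' ≠ 0 := by
    intro h0
    rw [h0, mul_zero] at hinv
    exact ha0 (by rw [← mul_one a, ← hinv, mul_zero])
  obtain ⟨e, he', he1, he2⟩ := h.inv _ (S.add_mem ha' hd') hne
  have : a + a * b * a = e := by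
    calc a + a * b * a = (a + a * b * a) * ((a' + d') * e) := by rw [he2, mul_one]
      _ = e := by rw [← mul_assoc, hinv, one_mul]
  have h3 : a * b * a = a + e := by
    rw [← this, ← add_assoc, h.two, zero_add]
  rw [h3]
  exact S.add_mem ha he'

theorem IsInvClosed.sq_mem (h : IsInvClosed S) {a : E} (ha : a ∈ S) : a * a ∈ S := by
  simpa using h.triple ha h.one_mem

theorem IsInvClosed.bracket (h : IsInvClosed S) {a b : E} (ha : a ∈ S) (hb : b ∈ S) :
    a * b + b * a ∈ S := by
  have : a * b + b * a = (a + b) * (a + b) - a * a - b * b := by noncomm_ring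
  rw [this]
  exact S.sub_mem (S.sub_mem (h.sq_mem (S.add_mem ha hb)) (h.sq_mem ha)) (h.sq_mem hb)

/-- Evaluation of a word in two letters. -/
def ev (a b : E) (w : List Bool) : E := (w.map fun l => if l then a else b).prod

theorem ev_append (a b : E) (u w : List Bool) : ev a b (u ++ w) = ev a b u * ev a b w := by
  simp [ev]

theorem ev_nil (a b : E) : ev a b [] = 1 := by simp [ev]

theorem ev_singleton (a b : E) (l : Bool) : ev a b [l] = if l then a else b := by
  simp [ev]

theorem ev_cons (a b : E) (l : Bool) (w : List Bool) :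
    ev a b (l :: w) = (if l then a else b) * ev a b w := by simp [ev]

theorem alternating_ext : ∀ {u w : List Bool}, List.IsChain (· ≠ ·) u → List.IsChain (· ≠ ·) w →
    u.head? = w.head? → u.length = w.length → u = w
  | [], w, _, _, _, hl => (List.length_eq_zero_iff.mp hl.symm).symm
  | x :: u, [], _, _, _, hl => by simp at hl
  | x :: u, y :: w, hu, hw, hh, hl => by
    obtain rfl : x = y := by simpa using hh
    congr 1
    refine alternating_ext hu.tail hw.tail ?_ (by simpa using hl)
    rcases u with _ | ⟨p, u⟩ <;> rcases w with _ | ⟨q, w⟩ <;> simp at hl ⊢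
    have h1 := (List.isChain_cons_cons.mp hu).1
    have h2 := (List.isChain_cons_cons.mp hw).1
    cases x <;> cases p <;> cases q <;> simp_all

section Words

variable {a b : E} (h : IsInvClosed S) (ha : a ∈ S) (hb : b ∈ S)
include h ha hb

theorem letter_mem (l : Bool) : (if l then a else b) ∈ S := by
  cases l <;> assumption

theorem palindrome_mem : ∀ (n : ℕ) (w : List Bool), w.length ≤ n → w.reverse = w → ev a b w ∈ S := by
  intro n
  induction n with
  | zero =>
    intro w hw _
    rw [List.length_eq_zero_iff.mp (Nat.le_zero.mp hw)]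
    simpa [ev] using h.one_mem
  | succ n ih =>
    intro w hw hp
    match w, hw, hp with
    | [], _, _ => simpa [ev] using h.one_mem
    | l :: u, hw, hp =>
      rcases List.eq_nil_or_concat u with rfl | ⟨m, l', rfl⟩
      · rw [ev_singleton]
        exact letter_mem h ha hb l
      · simp only [List.concat_eq_append, List.reverse_cons, List.reverse_append, List.reverse_nil,
          List.nil_append, List.cons_append, List.cons.injEq] at hp
        obtain ⟨rfl, hm⟩ := hp
        have hm' : m.reverse = m := List.append_cancel_right hm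
        rw [List.concat_eq_append, ev_cons, ev_append, ev_singleton, ← mul_assoc]
        refine h.triple (letter_mem h ha hb _) (ih m ?_ hm')
        simp only [List.concat_eq_append, List.length_cons, List.length_append, List.length_nil] at hw
        omega

theorem add_reverse_mem : ∀ (n : ℕ) (w : List Bool), w.length = n → ev a b w + ev a b w.reverse ∈ S := by
  intro n
  induction n using Nat.strong_induction_on with
  | _ n ih =>
  intro w hw
  -- rotating one letter changes the sum by an element of `S`
  have hrot : ∀ (l : Bool) (u : List Bool), u.length < n →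
      (ev a b (l :: u) + ev a b (l :: u).reverse) + (ev a b (u ++ [l]) + ev a b (u ++ [l]).reverse) ∈ S := by
    intro l u hu
    have := h.bracket (letter_mem h ha hb l) (ih _ hu u rfl)
    simp only [List.reverse_cons, List.reverse_append, List.reverse_nil, List.nil_append,
      ev_cons, ev_append, ev_nil, mul_one, List.cons_append]
    convert this using 1
    noncomm_ring
  have hrotn : ∀ (p r : List Bool), p.length + r.length = n →
      (ev a b (r ++ p) + ev a b (r ++ p).reverse) ∈ S → (ev a b (p ++ r) + ev a b (p ++ r).reverse) ∈ S := by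
    intro p
    induction p with
    | nil => intro r _ hr; simpa using hr
    | cons l p ihp =>
      intro r hlen hr
      have h1 := ihp (r ++ [l]) (by simp at hlen ⊢; omega) (by simpa using hr)
      have h2 := hrot l (p ++ r) (by simp at hlen ⊢; omega)
      have h3 := S.sub_mem h2 h1
      simpa [List.append_assoc] using h3
  match w, hw with
  | [], _ => rw [show ev a b ([] : List Bool) + ev a b ([] : List Bool).reverse = 0 from h.two _]; exact S.zero_mem
  | l :: u, hw =>
    rcases List.eq_nil_or_concat u with rfl | ⟨m, l', rfl⟩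
    · rw [show ev a b [l] + ev a b [l].reverse = 0 from h.two _]; exact S.zero_mem
    rw [List.concat_eq_append] at hw ⊢
    -- words whose ends agree
    have hends : ∀ (x : Bool) (v : List Bool), v.length + 2 = n →
        ev a b (x :: (v ++ [x])) + ev a b (x :: (v ++ [x])).reverse ∈ S := by
      intro x v hv
      have h1 := h.triple (letter_mem h ha hb x) (ih v.length (by omega) v rfl)
      simp only [List.reverse_cons, List.reverse_append, List.reverse_nil, List.nil_append,
        ev_cons, ev_append, ev_nil, mul_one, List.cons_append]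
      convert h1 using 1
      noncomm_ring
    by_cases hll : l = l'
    · rw [← hll]
      exact hends l m (by rw [← hw]; simp)
    by_cases hch : List.IsChain (· ≠ ·) (l :: (m ++ [l']))
    · -- alternating word
      have hu : List.IsChain (· ≠ ·) (m ++ [l']) := hch.tail
      have hlast : (m ++ [l']).head? = some l' := by
        rcases m with _ | ⟨p, m⟩
        · rfl
        · have h1 := (List.isChain_cons_cons.mp hch).1
          simp only [List.cons_append, List.head?_cons, Option.some.injEq]
          cases l <;> cases p <;> cases l' <;> simp_all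
      have hpal : (m ++ [l']).reverse = m ++ [l'] := by
        refine alternating_ext (List.isChain_reverse.mpr ?_) hu ?_ (List.length_reverse ..)
        · exact hu.imp fun _ _ e => e.symm
        · rw [hlast]
          simp
      have h1 := h.bracket (letter_mem h ha hb l) (palindrome_mem h ha hb _ _ le_rfl hpal)
      rw [List.reverse_cons, hpal, ev_cons, ev_append _ _ (m ++ [l']) [l], ev_singleton]
      exact h1
    · -- rotate to a word whose ends agree
      obtain ⟨p, x, q, hpq⟩ : ∃ p x q, l :: (m ++ [l']) = p ++ x :: x :: q := by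
        by_contra hno
        push Not at hno
        apply hch
        have key : ∀ z : List Bool, (∀ p x q, z ≠ p ++ x :: x :: q) → List.IsChain (· ≠ ·) z := by
          intro z
          induction z with
          | nil => intro _; exact List.isChain_nil
          | cons x z ihz =>
            intro hz
            rcases z with _ | ⟨y, z⟩
            · exact List.isChain_singleton x
            · refine List.isChain_cons_cons.mpr ⟨fun e => hz [] x z (by simp [e]), ihz fun p x' q e => hz (x :: p) x' q (by simp [e])⟩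
        exact key _ hno
      rw [hpq] at hw ⊢
      have : p ++ x :: x :: q = (p ++ [x]) ++ x :: q := by simp
      rw [this]
      refine hrotn _ _ (by simp at hw ⊢; omega) ?_
      have e : (x :: q) ++ (p ++ [x]) = x :: ((q ++ p) ++ [x]) := by simp
      rw [e]
      exact hends x (q ++ p) (by simp at hw ⊢; omega)

end Words

open MulOpposite

/-- The exchange involution of `E × Eᵐᵒᵖ`. -/
def star' (r : E × Eᵐᵒᵖ) : E × Eᵐᵒᵖ := (r.2.unop, op r.1)

theorem star'_mul (r s : E × Eᵐᵒᵖ) : star' (r * s) = star' s * star' r := by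
  simp [star']

theorem star'_add (r s : E × Eᵐᵒᵖ) : star' (r + s) = star' r + star' s := by
  simp [star']

theorem star'_star' (r : E × Eᵐᵒᵖ) : star' (star' r) = r := by simp [star']

theorem star'_one : star' (1 : E × Eᵐᵒᵖ) = 1 := by simp [star']

/-- The diagonal image of `S`. -/
def diag (S : AddSubgroup E) : AddSubgroup (E × Eᵐᵒᵖ) where
  carrier := {r | r.1 ∈ S ∧ r.2 = op r.1}
  zero_mem' := ⟨S.zero_mem, rfl⟩
  add_mem' := by
    rintro r s ⟨h1, h2⟩ ⟨h3, h4⟩
    exact ⟨S.add_mem h1 h3, by simp [h2, h4]⟩
  neg_mem' := by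
    rintro r ⟨h1, h2⟩
    exact ⟨S.neg_mem h1, by simp [h2]⟩

variable [Finite E]

/-- Two elements of `S` commute. -/
theorem IsInvClosed.commute (h : IsInvClosed S) {a b : E} (ha : a ∈ S) (hb : b ∈ S) :
    a * b = b * a := by
  classical
  haveI : Finite Eᵐᵒᵖ := Finite.of_equiv E opEquiv
  by_cases hne1 : (1 : E) = 0
  · haveI := subsingleton_of_zero_eq_one hne1.symm
    exact Subsingleton.elim _ _
  let A : E × Eᵐᵒᵖ := (a, op a)
  let B : E × Eᵐᵒᵖ := (b, op b)
  -- words
  let W : List Bool → E × Eᵐᵒᵖ := fun w => (ev a b w, op (ev a b w.reverse))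
  have hWapp : ∀ u w, W (u ++ w) = W u * W w := fun u w => by
    simp [W, ev_append, List.reverse_append]
  have hWA : W [true] = A := by simp [W, ev, A]
  have hWB : W [false] = B := by simp [W, ev, B]
  have hW1 : W [] = 1 := by simp [W, ev]
  have hWstar : ∀ w, star' (W w) = W w.reverse := fun w => by simp [W, star', List.reverse_reverse]
  -- the subring spanned by words
  let R : AddSubgroup (E × Eᵐᵒᵖ) := AddSubgroup.closure (Set.range W)
  have hR1 : (1 : E × Eᵐᵒᵖ) ∈ R := AddSubgroup.subset_closure ⟨[], hW1⟩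
  have hRA : A ∈ R := AddSubgroup.subset_closure ⟨_, hWA⟩
  have hRB : B ∈ R := AddSubgroup.subset_closure ⟨_, hWB⟩
  have hRmul : ∀ r ∈ R, ∀ s ∈ R, r * s ∈ R := by
    intro r hr s hs
    induction hr using AddSubgroup.closure_induction with
    | mem x hx =>
      obtain ⟨u, rfl⟩ := hx
      induction hs using AddSubgroup.closure_induction with
      | mem y hy =>
        obtain ⟨w, rfl⟩ := hy
        exact AddSubgroup.subset_closure ⟨_, hWapp u w⟩
      | zero => simp [R.zero_mem]
      | add y z _ _ hy hz => rw [mul_add]; exact R.add_mem hy hz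
      | neg y _ hy => rw [mul_neg]; exact R.neg_mem hy
    | zero => simp [R.zero_mem]
    | add y z _ _ hy hz => rw [add_mul]; exact R.add_mem hy hz
    | neg y _ hy => rw [neg_mul]; exact R.neg_mem hy
  have hneg : ∀ x : E × Eᵐᵒᵖ, -x = x := fun x => by
    refine Prod.ext (h.neg_eq _) ?_
    exact unop_injective (by simp [h.neg_eq])
  have htwo : ∀ x : E × Eᵐᵒᵖ, x + x = 0 := fun x => by
    nth_rewrite 1 [← hneg x]
    exact neg_add_cancel x
  have hRstar : ∀ r ∈ R, star' r ∈ R ∧ r + star' r ∈ diag S := by
    intro r hr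
    induction hr using AddSubgroup.closure_induction with
    | mem x hx =>
      obtain ⟨u, rfl⟩ := hx
      rw [hWstar]
      refine ⟨AddSubgroup.subset_closure ⟨_, rfl⟩, add_reverse_mem h ha hb _ u rfl, ?_⟩
      simp [W, add_comm]
    | zero => refine ⟨by simp [star', R.zero_mem]; exact R.zero_mem, ?_⟩; simp [star']; exact (diag S).zero_mem
    | add y z _ _ hy hz =>
      rw [star'_add]
      refine ⟨R.add_mem hy.1 hz.1, ?_⟩
      rw [add_add_add_comm]
      exact (diag S).add_mem hy.2 hz.2
    | neg y _ hy =>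
      rw [hneg y]
      exact hy
  -- `star r * Z * r` lies on the diagonal
  have hnorm : ∀ z : List Bool, z.reverse = z → ∀ r ∈ R, star' r * W z * r ∈ diag S := by
    intro z hz r hr
    induction hr using AddSubgroup.closure_induction with
    | mem x hx =>
      obtain ⟨u, rfl⟩ := hx
      rw [hWstar, ← hWapp, ← hWapp]
      have hp : (u.reverse ++ z ++ u).reverse = u.reverse ++ z ++ u := by simp [hz, List.append_assoc]
      refine ⟨palindrome_mem h ha hb _ _ le_rfl hp, ?_⟩
      show op (ev a b (u.reverse ++ z ++ u).reverse) = op (ev a b (u.reverse ++ z ++ u))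
      rw [hp]
    | zero => simpa using (diag S).zero_mem
    | add y w hy hw hyS hwS =>
      have e : star' (y + w) * W z * (y + w) = star' y * W z * y + star' w * W z * w +
          (star' y * W z * w + star' (star' y * W z * w)) := by
        rw [star'_add, star'_mul, star'_mul, star'_star', hWstar, hz]
        noncomm_ring
      rw [e]
      refine (diag S).add_mem ((diag S).add_mem hyS hwS) (hRstar _ ?_).2
      exact hRmul _ (hRmul _ (hRstar y hy).1 _ (AddSubgroup.subset_closure ⟨z, rfl⟩)) _ hw
    | neg y _ hy =>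
      rw [hneg y]
      exact hy
  have hunit : ∀ x ∈ diag S, x ≠ 0 → IsUnit x := by
    rintro ⟨s, t⟩ ⟨hs, ht⟩ hx
    obtain rfl : t = op s := ht
    obtain ⟨s', -, h1, h2⟩ := h.inv s hs (fun e => hx (by rw [e]; rfl))
    exact ⟨⟨(s, op s), (s', op s'), Prod.ext h2 (unop_injective (by simpa using h1)),
      Prod.ext h1 (unop_injective (by simpa using h2))⟩, rfl⟩
  have hidemU : ∀ x : E × Eᵐᵒᵖ, x * x = x → IsUnit x → x = 1 := fun x hx hu => by
    exact (IsIdempotentElem.iff_eq_one_of_isUnit hu).mp hx
  -- idempotents commute with `a` and `b`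
  have hidem : ∀ e ∈ R, e * e = e → e * A = A * e ∧ e * B = B * e := by
    intro e he hee
    by_cases h1 : e = 1
    · simp [h1]
    by_cases h0 : e = 0
    · simp [h0]
    have hnu : ¬ IsUnit e := fun hu => h1 (hidemU e hee hu)
    have hsee : star' e * star' e = star' e := by rw [← star'_mul, hee]
    have hnus : ¬ IsUnit (star' e) := fun hu => h1 (by
      rw [← star'_star' e, hidemU _ hsee hu, star'_one])
    have hzero : ∀ x ∈ diag S, ∀ c d, x = c * d → ¬ IsUnit d → x = 0 := by
      intro x hx c d hxcd hd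
      by_contra hx0
      obtain ⟨u, hu⟩ := hunit x hx hx0
      apply hd
      refine IsLeftRegular.isUnit_of_finite fun p q hpq => ?_
      have : (u : E × Eᵐᵒᵖ) * p = u * q := by
        rw [hu, hxcd, mul_assoc, mul_assoc]
        exact congrArg (c * ·) hpq
      exact u.mul_right_inj.mp this
    have hee' : star' e * e = 0 := by
      have := hnorm [] rfl e he
      rw [hW1, mul_one] at this
      exact hzero _ this _ _ rfl hnu
    have hee'' : e * star' e = 0 := by
      have := hnorm [] rfl (star' e) (hRstar e he).1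
      rw [hW1, mul_one, star'_star'] at this
      exact hzero _ this _ _ rfl hnus
    have hstar : star' e = 1 + e := by
      have hf : (e + star' e) * (e + star' e) = e + star' e := by
        rw [add_mul, mul_add, mul_add, hee, hee', hee'', hsee, add_zero, zero_add]
      have hne : e + star' e ≠ 0 := by
        intro hz
        have : e = star' e := by
          rw [← hneg (star' e)]
          exact eq_neg_of_add_eq_zero_left hz
        exact h0 (by rw [← hee]; nth_rewrite 1 [this]; exact hee')
      have := hidemU _ hf (hunit _ (hRstar e he).2 hne)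
      rw [← this, add_comm e (star' e), add_assoc, htwo, add_zero]
    have key : ∀ l : Bool, e * W [l] = W [l] * e := by
      intro l
      have k1 : (1 + e) * W [l] * e = 0 := by
        rw [← hstar]
        exact hzero _ (hnorm [l] rfl e he) _ _ rfl hnu
      have k2 : e * W [l] * (1 + e) = 0 := by
        have := hnorm [l] rfl (star' e) (hRstar e he).1
        rw [star'_star'] at this
        rw [← hstar]
        exact hzero _ this _ _ rfl hnus
      rw [add_mul, one_mul, add_mul] at k1
      rw [mul_add, mul_one] at k2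
      exact (eq_neg_of_add_eq_zero_left k2).trans (eq_neg_of_add_eq_zero_left k1).symm
    exact ⟨hWA ▸ key true, hWB ▸ key false⟩
  -- idempotents are central in `R`
  have hcentral : ∀ e ∈ R, e * e = e → ∀ r ∈ R, e * r = r * e := by
    intro e he hee r hr
    obtain ⟨hA, hB⟩ := hidem e he hee
    induction hr using AddSubgroup.closure_induction with
    | mem x hx =>
      obtain ⟨u, rfl⟩ := hx
      induction u with
      | nil => rw [hW1, mul_one, one_mul]
      | cons l u ihu =>
        rw [show l :: u = [l] ++ u from rfl, hWapp]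
        have hl : Commute e (W [l]) := by
          cases l
          · rw [hWB]; exact hB
          · rw [hWA]; exact hA
        exact hl.mul_right ihu
    | zero => simp
    | add y z _ _ hy hz => rw [mul_add, add_mul, hy, hz]
    | neg y _ hy => rw [mul_neg, neg_mul, hy]
  -- a primitive idempotent
  obtain ⟨f, ⟨hfR, hff, hf0⟩, hfmin⟩ : ∃ f, (f ∈ R ∧ f * f = f ∧ f ≠ 0) ∧
      ∀ e, e ∈ R ∧ e * e = e ∧ e ≠ 0 → Nat.card (Set.range fun x => f * x) ≤ Nat.card (Set.range fun x => e * x) := by
    obtain ⟨f, hf, hmin⟩ := (Set.toFinite {e : E × Eᵐᵒᵖ | e ∈ R ∧ e * e = e ∧ e ≠ 0}).exists_minimalFor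
        (fun e => Nat.card (Set.range fun x => e * x)) _ ⟨1, hR1, mul_one _, fun e => hne1 (congrArg Prod.fst e)⟩
    exact ⟨f, hf, fun e he => le_of_not_gt fun hlt => absurd (hmin he hlt.le) (not_le.mpr hlt)⟩
  have hprim : ∀ e ∈ R, e * e = e → f * e = e → e = 0 ∨ e = f := by
    intro e he hee hfe
    by_cases he0 : e = 0
    · exact Or.inl he0
    right
    have hsub : (Set.range fun x => e * x) ⊆ Set.range fun x => f * x := by
      rintro _ ⟨x, rfl⟩
      exact ⟨e * x, by simp [← mul_assoc, hfe]⟩
    have hle := hfmin e ⟨he, hee, he0⟩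
    have heq := Set.Finite.eq_of_subset_of_card_le (Set.toFinite _) hsub hle
    obtain ⟨x, hx⟩ : f ∈ Set.range fun x => e * x := heq ▸ ⟨1, mul_one f⟩
    simp only at hx
    calc e = f * e := hfe.symm
      _ = e * f := (hcentral e he hee f hfR).symm
      _ = e * (e * x) := by rw [hx]
      _ = f := by rw [← mul_assoc, hee, hx]
  -- the local ring `f R`
  let T : Type _ := {r : E × Eᵐᵒᵖ // r ∈ R ∧ f * r = r}
  have hpow : ∀ r ∈ R, ∀ n, r ^ n ∈ R := fun r hr n => by
    induction n with
    | zero => rw [pow_zero]; exact hR1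
    | succ n ihn => rw [pow_succ]; exact hRmul _ ihn _ hr
  have hnil : ∀ r ∈ R, f * r = r → (∀ s ∈ R, f * s = s → r * s ≠ f) → ∃ n, 0 < n ∧ r ^ n = 0 := by
    intro r hr hfr hnu
    obtain ⟨i, j, hne, heq⟩ := Finite.exists_ne_map_eq_of_infinite fun n : ℕ => r ^ (n + 1)
    wlog hij : i < j generalizing i j
    · exact this j i hne.symm heq.symm (lt_of_le_of_ne (not_lt.mp hij) hne.symm)
    obtain ⟨d, hd0, rfl⟩ : ∃ d, 0 < d ∧ j = i + d := ⟨j - i, by omega, by omega⟩
    have hper : ∀ t k, r ^ (i + 1 + k) = r ^ (i + 1 + k + t * d) := by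
      intro t
      induction t with
      | zero => simp
      | succ t iht =>
        intro k
        rw [iht k]
        have e1 : i + 1 + k + t * d = (i + 1) + (k + t * d) := by omega
        have e2 : i + 1 + k + (t + 1) * d = (i + d + 1) + (k + t * d) := by ring_nf
        rw [e1, e2, pow_add r (i + 1), pow_add r (i + d + 1), heq]
    set N := (i + 1) * d
    have hid : r ^ N * r ^ N = r ^ N := by
      have hN : i + 1 ≤ N := Nat.le_mul_of_pos_right _ hd0
      obtain ⟨k, hk⟩ : ∃ k, N = i + 1 + k := ⟨N - (i + 1), by omega⟩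
      rw [← pow_add]
      nth_rewrite 3 [hk]
      rw [hper (i + 1) k, ← hk]
    have hNpos : 0 < N := Nat.mul_pos (by omega) hd0
    have hfN : f * r ^ N = r ^ N := by
      obtain ⟨M, hM⟩ := Nat.exists_eq_succ_of_ne_zero hNpos.ne'
      rw [hM, pow_succ', ← mul_assoc, hfr]
    rcases hprim _ (hpow r hr N) hid hfN with h0 | h0
    · exact ⟨N, hNpos, h0⟩
    · exfalso
      obtain ⟨M, hM⟩ := Nat.exists_eq_succ_of_ne_zero hNpos.ne'
      refine hnu (f * r ^ M) (hRmul _ hfR _ (hpow r hr M)) (by rw [← mul_assoc, hff]) ?_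
      rw [← mul_assoc, ← hcentral f hfR hff r hr, hfr, ← pow_succ', ← Nat.succ_eq_add_one, ← hM, h0]
  let Tsub : NonUnitalSubring (E × Eᵐᵒᵖ) :=
    { carrier := {r | r ∈ R ∧ f * r = r}
      zero_mem' := ⟨R.zero_mem, mul_zero f⟩
      add_mem' := fun {r s} hr hs => ⟨R.add_mem hr.1 hs.1, by rw [mul_add, hr.2, hs.2]⟩
      neg_mem' := fun {r} hr => ⟨R.neg_mem hr.1, by rw [mul_neg, hr.2]⟩
      mul_mem' := fun {r s} hr hs => ⟨hRmul _ hr.1 _ hs.1, by rw [← mul_assoc, hr.2]⟩ }
  letI instT : Ring ↥Tsub :=
    { (inferInstance : NonUnitalRing ↥Tsub) with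
      one := ⟨f, hfR, hff⟩
      one_mul := fun x => Subtype.ext x.2.2
      mul_one := fun x => Subtype.ext
        (show (x : E × Eᵐᵒᵖ) * f = x by rw [← hcentral f hfR hff _ x.2.1, x.2.2]) }
  haveI : Nontrivial ↥Tsub := ⟨⟨⟨f, hfR, hff⟩, 0, fun e => hf0 (congrArg Subtype.val e)⟩⟩
  have hval : ∀ (x : ↥Tsub) (n : ℕ), 0 < n → ((x ^ n : ↥Tsub) : E × Eᵐᵒᵖ) = (x : E × Eᵐᵒᵖ) ^ n := by
    intro x n hn
    induction n with
    | zero => omega
    | succ n ihn =>
      rcases Nat.eq_zero_or_pos n with rfl | hn'
      · simp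
      · rw [pow_succ, pow_succ]
        show ((x ^ n : ↥Tsub) : E × Eᵐᵒᵖ) * (x : E × Eᵐᵒᵖ) = _
        rw [ihn hn']
  have hnonunit : ∀ x : ↥Tsub, ¬ IsUnit x → IsNilpotent x := by
    intro x hx
    have key : ∀ s ∈ R, f * s = s → (x : E × Eᵐᵒᵖ) * s ≠ f := by
      intro s hs hfs e
      refine hx (IsRightRegular.isUnit_of_finite ?_)
      intro p q hpq
      have e' : x * (⟨s, hs, hfs⟩ : ↥Tsub) = 1 := Subtype.ext e
      calc p = p * (x * ⟨s, hs, hfs⟩) := by rw [e', mul_one]
        _ = q * (x * ⟨s, hs, hfs⟩) := by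
          rw [← mul_assoc, ← mul_assoc]
          exact congrArg (· * _) hpq
        _ = q := by rw [e', mul_one]
    obtain ⟨n, hn, hxn⟩ := hnil _ x.2.1 x.2.2 key
    exact ⟨n, Subtype.ext (by rw [hval x n hn]; exact hxn)⟩
  have hideal : ∀ x : ↥Tsub, IsNilpotent x → ∀ y : ↥Tsub, IsNilpotent (y * x) ∧ IsNilpotent (x * y) := by
    intro x hx y
    have hxu : ¬ IsUnit x := fun hu => hu.not_isNilpotent hx
    exact ⟨hnonunit _ fun hu => hxu (isUnit_of_mul_isUnit_right hu),
      hnonunit _ fun hu => hxu (isUnit_of_mul_isUnit_left hu)⟩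
  let J : TwoSidedIdeal ↥Tsub := TwoSidedIdeal.mk' {x | IsNilpotent x} IsNilpotent.zero
    (fun {x y} hx hy => by
      refine hnonunit _ fun hu => ?_
      obtain ⟨u, hu⟩ := hu
      have hx' : IsNilpotent ((↑u⁻¹ : ↥Tsub) * x) := (hideal x hx _).1
      have : (↑u⁻¹ : ↥Tsub) * y = 1 - (↑u⁻¹ : ↥Tsub) * x := by
        rw [eq_sub_iff_add_eq, ← mul_add, add_comm y x, ← hu, Units.inv_mul]
      exact (this ▸ hx'.isUnit_one_sub : IsUnit _).not_isNilpotent (hideal y hy _).1)
    (fun {x} hx => hx.neg)
    (fun {x y} hy => (hideal y hy x).1) (fun {x y} hx => (hideal x hx y).2)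
  have hJmem : ∀ x : ↥Tsub, x ∈ J ↔ IsNilpotent x := fun x => TwoSidedIdeal.mem_mk' ..
  let π := J.ringCon.mk'
  have hπs : Function.Surjective π := J.ringCon.mk'_surjective
  have hπ0 : ∀ x : ↥Tsub, π x = 0 ↔ IsNilpotent x := fun x => by
    rw [← hJmem, TwoSidedIdeal.mem_iff]
    exact RingCon.eq _
  haveI : Finite J.ringCon.Quotient := Finite.of_surjective _ hπs
  haveI : Nontrivial J.ringCon.Quotient := ⟨⟨π 1, 0, fun e =>
    not_isNilpotent_one ((hπ0 1).mp e)⟩⟩
  have hdiv : ∀ x : J.ringCon.Quotient, x ≠ 0 → IsUnit x := by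
    intro x hx
    obtain ⟨y, rfl⟩ := hπs x
    have hy : IsUnit y := by
      by_contra hy
      exact hx ((hπ0 y).mpr (hnonunit y hy))
    exact hy.map π
  letI : DivisionRing J.ringCon.Quotient := DivisionRing.ofIsUnitOrEqZero fun x =>
    (em (x = 0)).symm.imp_left (hdiv x)
  letI : Field J.ringCon.Quotient := littleWedderburn _
  let Af : ↥Tsub := ⟨f * A, hRmul _ hfR _ hRA, by rw [← mul_assoc, hff]⟩
  let Bf : ↥Tsub := ⟨f * B, hRmul _ hfR _ hRB, by rw [← mul_assoc, hff]⟩
  have hc : IsNilpotent (Af * Bf + Bf * Af) := by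
    refine (hπ0 _).mp ?_
    have h2' : (1 : J.ringCon.Quotient) + 1 = 0 := by
      rw [← map_one π, ← map_add, show (1 : ↥Tsub) + 1 = 0 from Subtype.ext (htwo _), map_zero]
    rw [map_add, map_mul, map_mul, mul_comm (π Bf), ← mul_one (π Af * π Bf), ← mul_add, h2', mul_zero]
  by_contra hne
  have hc0 : a * b + b * a ≠ 0 := fun e => hne (by
    rw [← h.neg_eq (b * a)]; exact eq_neg_of_add_eq_zero_left e)
  have hCu : IsUnit (A * B + B * A) := by
    refine hunit _ ⟨h.bracket ha hb, ?_⟩ (fun e => hc0 (congrArg Prod.fst e))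
    show op a * op b + op b * op a = op (a * b + b * a)
    simp [add_comm]
  obtain ⟨n, hn⟩ := hc
  have hAf : (Af * Bf + Bf * Af : ↥Tsub).1 = f * (A * B + B * A) := by
    show f * A * (f * B) + f * B * (f * A) = _
    rw [mul_assoc f A, ← mul_assoc A f, ← hcentral f hfR hff A hRA, mul_assoc f A B, ← mul_assoc f f,
      hff, mul_assoc f B, ← mul_assoc B f, ← hcentral f hfR hff B hRB, mul_assoc f B A, ← mul_assoc f f,
      hff, mul_add]
  have hn' : f * (A * B + B * A) ^ (n + 1) = 0 := by
    have h1 : ((Af * Bf + Bf * Af) ^ (n + 1) : ↥Tsub) = 0 := by rw [pow_succ, hn, zero_mul]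
    have h2 := congrArg Subtype.val h1
    rw [hval _ _ (Nat.succ_pos n), hAf] at h2
    have hcomm : Commute f (A * B + B * A) :=
      hcentral f hfR hff _ (R.add_mem (hRmul _ hRA _ hRB) (hRmul _ hRB _ hRA))
    rw [hcomm.mul_pow] at h2
    have : f ^ (n + 1) = f := (IsIdempotentElem.pow_succ_eq n hff)
    rw [this] at h2
    exact h2
  exact hf0 ((hCu.pow (n + 1)).mul_left_eq_zero.mp hn')

/-- `S` is closed under multiplication. -/
theorem IsInvClosed.mul_mem (h : IsInvClosed S) {a b : E} (ha : a ∈ S) (hb : b ∈ S) :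
    a * b ∈ S := by
  let f : ↥S → ↥S := fun s => ⟨(s : E) * s, h.sq_mem s.2⟩
  have hinj : Function.Injective f := by
    rintro ⟨s, hs⟩ ⟨t, ht⟩ e
    have e' : s * s = t * t := congrArg Subtype.val e
    have h0 : (s + t) * (s + t) = 0 := by
      rw [add_mul, mul_add, mul_add, e', h.commute hs ht, add_assoc, ← add_assoc (t * s), h.two,
        zero_add, h.two]
    apply Subtype.ext
    by_contra hne
    obtain ⟨u, -, hu, -⟩ := h.inv _ (S.add_mem hs ht) fun e0 => hne (by
      show s = t
      exact (eq_neg_of_add_eq_zero_left e0).trans (h.neg_eq t))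
    have h1 : s + t = 0 := by rw [← one_mul (s + t), ← hu, mul_assoc, h0, mul_zero]
    exact hne ((eq_neg_of_add_eq_zero_left h1).trans (h.neg_eq t))
  obtain ⟨⟨c, hc⟩, hca⟩ := (Finite.injective_iff_surjective.mp hinj) ⟨a, ha⟩
  have hca' : c * c = a := congrArg Subtype.val hca
  have : a * b = c * b * c := by
    calc a * b = c * (c * b) := by rw [← mul_assoc, hca']
      _ = c * b * c := by rw [mul_assoc c b c, h.commute hb hc]
  rw [this]
  exact h.triple hc hb

end CfsgLib.KSteps.Jordan
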