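import Cfsg.Agent.Lib.KSteps.Jordan
import Mathlib.Algebra.Field.Shrink
import Mathlib.Algebra.Ring.Subring.Basic
import Mathlib.Data.Finite.Card

/-!
An inverse-closed additive subgroup of a finite ring of characteristic two is a field.
-/

set_option autoImplicit false

namespace CfsgLib.KSteps.Jordan

variable {E : Type*} [Ring E] [Finite E] {S : AddSubgroup E}

/-- `S` is the image of a field. -/
theorem IsInvClosed.exists_field (h : IsInvClosed S) (hne : (1 : E) ≠ 0) :
    ∃ (F : Type) (_ : Field F) (_ : Fintype F) (ι : F → E),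
      (∀ x y, ι (x + y) = ι x + ι y) ∧ (∀ x y, ι (x * y) = ι x * ι y) ∧ ι 1 = 1 ∧
      Function.Injective ι ∧ ∀ f, f ∈ S ↔ ∃ x, ι x = f := by
  let T : Subring E :=
    { carrier := S
      one_mem' := h.one_mem
      mul_mem' := fun ha hb => h.mul_mem ha hb
      zero_mem' := S.zero_mem
      add_mem' := fun ha hb => S.add_mem ha hb
      neg_mem' := fun ha => S.neg_mem ha }
  letI : CommRing ↥T :=
    { (inferInstance : Ring ↥T) with
      mul_comm := fun a b => Subtype.ext (h.commute a.2 b.2) }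
  haveI : Nontrivial ↥T := ⟨⟨1, 0, fun e => hne (congrArg Subtype.val e)⟩⟩
  letI : Field ↥T := Field.ofIsUnitOrEqZero fun a => by
    by_cases ha : a = 0
    · exact Or.inr ha
    obtain ⟨t, ht, h1, h2⟩ := h.inv (a : E) a.2 fun e => ha (Subtype.ext e)
    exact Or.inl ⟨⟨a, ⟨t, ht⟩, Subtype.ext h2, Subtype.ext h1⟩, rfl⟩
  let e : Shrink.{0} ↥T ≃+* ↥T := Shrink.ringEquiv.{0} ↥T
  haveI : Finite (Shrink.{0} ↥T) := Finite.of_equiv _ (equivShrink.{0} ↥T)
  refine ⟨Shrink.{0} ↥T, inferInstance, Fintype.ofFinite _, fun x => ((e x : ↥T) : E),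
    fun x y => congrArg Subtype.val (map_add e x y), fun x y => congrArg Subtype.val (map_mul e x y),
    congrArg Subtype.val (map_one e),
    fun x y he => e.injective (Subtype.ext he), fun f => ⟨fun hf => ⟨e.symm ⟨f, hf⟩, by simp⟩, ?_⟩⟩
  rintro ⟨x, rfl⟩
  exact (e x).2

end CfsgLib.KSteps.Jordan
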