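import Cfsg.Agent.Lib.KSteps.GFit
import Mathlib.Tactic.Group

set_option autoImplicit false

namespace CfsgLib.KSteps

private theorem exists_central_mem_of_normal {T : Type*} [Group T] [Finite T] (hT : IsPGroup 2 T)
    (N : Subgroup T) [N.Normal] (hN : ¬ N ≤ Subgroup.center T) :
    ∃ x ∈ N, x ∉ Subgroup.center T ∧ ∀ g : T, g * x * g⁻¹ * x⁻¹ ∈ Subgroup.center T := by
  have : Fact (Nat.Prime 2) := ⟨Nat.prime_two⟩
  let π := QuotientGroup.mk' (Subgroup.center T)
  have hM : (N.map π).Normal := ‹N.Normal›.map _ (QuotientGroup.mk'_surjective _)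
  obtain ⟨b, ⟨x, hx, rfl⟩, hb1, hfix⟩ := exists_fixed_of_normalizes ⊤ (N.map π)
    ((hT.to_quotient _).to_subgroup _) ((hT.to_quotient _).to_subgroup _)
    (fun h => hN fun y hy => by
      have : π y ∈ N.map π := ⟨y, hy, rfl⟩
      rw [h, Subgroup.mem_bot] at this
      exact (QuotientGroup.eq_one_iff y).mp this)
    (fun g _ y hy => hM.conj_mem y hy g)
  refine ⟨x, hx, fun h => hb1 ((QuotientGroup.eq_one_iff x).mpr h), fun g => ?_⟩
  refine (QuotientGroup.eq_one_iff _).mp ?_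
  have h := hfix (π g) (Subgroup.mem_top _)
  show π (g * x * g⁻¹ * x⁻¹) = 1
  rw [map_mul, map_mul, map_mul, map_inv, map_inv, h]
  group

/-- A characteristic subgroup of a group of symplectic type is of symplectic type. -/
theorem symplecticType_subgroup {T : Type*} [Group T] (hT : Cfsg.IsOfSymplecticType T) (C : Subgroup T)
    [hC : C.Characteristic] : Cfsg.IsOfSymplecticType ↥C := by
  refine ⟨hT.1.to_subgroup C, fun A hA hAc => ?_⟩
  have hchar : (A.map C.subtype).Characteristic := inferInstance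
  have hcomm : IsMulCommutative ↥(A.map C.subtype) := by
    refine ⟨⟨?_⟩⟩
    rintro ⟨_, a, ha, rfl⟩ ⟨_, b, hb, rfl⟩
    exact Subtype.ext (congrArg (fun w : ↥A => ((w : ↥C) : T)) (hAc.is_comm.comm ⟨a, ha⟩ ⟨b, hb⟩))
  have hcy := hT.2 _ hchar hcomm
  exact (A.equivMapOfInjective C.subtype C.subtype_injective).isCyclic.mpr hcy

/-- In a group of symplectic type and exponent dividing four every commutator is central of order at
most two. -/
theorem symplectic_exp_four {T : Type*} [Group T] [Finite T] (hT : Cfsg.IsOfSymplecticType T)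
    (h4 : ∀ x : T, x ^ 4 = 1) :
    ∀ a b : T, a * b * a⁻¹ * b⁻¹ ∈ Subgroup.center T ∧
      (a * b * a⁻¹ * b⁻¹) * (a * b * a⁻¹ * b⁻¹) = 1 := by
  suffices ∀ n, ∀ C : Subgroup T, Nat.card ↥C = n → Cfsg.IsOfSymplecticType ↥C →
      ∀ a ∈ C, ∀ b ∈ C, (∀ c ∈ C, c * (a * b * a⁻¹ * b⁻¹) = (a * b * a⁻¹ * b⁻¹) * c) ∧
        (a * b * a⁻¹ * b⁻¹) * (a * b * a⁻¹ * b⁻¹) = 1 by
    intro a b
    have hcy : ∀ A : Subgroup ↥(⊤ : Subgroup T), A.Characteristic → IsMulCommutative ↥A → IsCyclic ↥A := by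
      intro A hA hAc
      exact (symplecticType_subgroup hT ⊤).2 A hA hAc
    obtain ⟨h1, h2⟩ := this _ ⊤ rfl ⟨hT.1.to_subgroup _, hcy⟩ a (Subgroup.mem_top a) b (Subgroup.mem_top b)
    exact ⟨Subgroup.mem_center_iff.mpr fun c => h1 c (Subgroup.mem_top c), h2⟩
  intro n
  induction n using Nat.strong_induction_on with
  | _ n ih =>
  intro S hSn hS
  have hT4 : ∀ x : ↥S, x ^ 4 = 1 := fun x => Subtype.ext (by simpa using h4 (x : T))
  suffices key : ∀ a b : ↥S, a * b * a⁻¹ * b⁻¹ ∈ Subgroup.center ↥S by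
    intro a ha b hb
    have hk := key ⟨a, ha⟩ ⟨b, hb⟩
    refine ⟨fun c hc => congrArg Subtype.val (Subgroup.mem_center_iff.mp hk ⟨c, hc⟩), ?_⟩
    have hk' := key ⟨b, hb⟩ ⟨a, ha⟩
    set x : ↥S := ⟨a, ha⟩
    set y : ↥S := ⟨b, hb⟩
    set k := y * x * y⁻¹ * x⁻¹ with hk_def
    have hcom : ∀ c : ↥S, Commute k c := fun c => (Subgroup.mem_center_iff.mp hk' c).symm
    have hyx : y * x = k * (x * y) := by rw [hk_def]; group
    have h2 : (x * y) ^ 2 = k * (x ^ 2 * y ^ 2) := by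
      calc (x * y) ^ 2 = x * (y * x) * y := by simp only [pow_two]; group
        _ = x * (k * (x * y)) * y := by rw [hyx]
        _ = (x * k) * (x * y * y) := by group
        _ = (k * x) * (x * y * y) := by rw [(hcom x).eq]
        _ = _ := by simp only [pow_two]; group
    have hy2x : y ^ 2 * x = k ^ 2 * (x * y ^ 2) := by
      calc y ^ 2 * x = y * (y * x) := by simp only [pow_two]; group
        _ = y * (k * (x * y)) := by rw [hyx]
        _ = (y * k) * (x * y) := by group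
        _ = (k * y) * (x * y) := by rw [(hcom y).eq]
        _ = k * (y * x) * y := by group
        _ = k * (k * (x * y)) * y := by rw [hyx]
        _ = _ := by simp only [pow_two]; group
    have hy2x2 : y ^ 2 * x ^ 2 = x ^ 2 * y ^ 2 := by
      calc y ^ 2 * x ^ 2 = (y ^ 2 * x) * x := by simp only [pow_two]; group
        _ = k ^ 2 * (x * y ^ 2) * x := by rw [hy2x]
        _ = k ^ 2 * (x * (y ^ 2 * x)) := by group
        _ = k ^ 2 * (x * (k ^ 2 * (x * y ^ 2))) := by rw [hy2x]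
        _ = k ^ 2 * ((x * k ^ 2) * (x * y ^ 2)) := by group
        _ = k ^ 2 * ((k ^ 2 * x) * (x * y ^ 2)) := by rw [((hcom x).pow_left 2).eq]
        _ = k ^ 4 * (x ^ 2 * y ^ 2) := by simp only [pow_succ, pow_zero, one_mul]; group
        _ = _ := by rw [hT4, one_mul]
    have h4' : (x * y) ^ 4 = k ^ 2 := by
      calc (x * y) ^ 4 = ((x * y) ^ 2) ^ 2 := by rw [← pow_mul]
        _ = k ^ 2 * ((x ^ 2 * y ^ 2) ^ 2) := by rw [h2, (hcom _).mul_pow]
        _ = k ^ 2 * (x ^ 4 * y ^ 4) := by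
          rw [(show Commute (x ^ 2) (y ^ 2) from hy2x2.symm).mul_pow, ← pow_mul, ← pow_mul]
        _ = k ^ 2 := by rw [hT4, hT4, one_mul, mul_one]
    rw [hT4] at h4'
    have e : x * y * x⁻¹ * y⁻¹ = k⁻¹ := by rw [hk_def]; group
    have : (x * y * x⁻¹ * y⁻¹) * (x * y * x⁻¹ * y⁻¹) = 1 := by
      rw [e, ← mul_inv_rev, ← pow_two, ← h4', inv_one]
    exact congrArg Subtype.val this
  by_contra hneg
  push Not at hneg
  obtain ⟨a₀, b₀, hab₀⟩ := hneg
  have : Fact (Nat.Prime 2) := ⟨Nat.prime_two⟩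
  set D := commutator ↥S
  have hD : ¬ D ≤ Subgroup.center ↥S := fun h =>
    hab₀ (h (Subgroup.commutator_mem_commutator (Subgroup.mem_top a₀) (Subgroup.mem_top b₀)))
  -- `W` is the second centre
  let W : Subgroup ↥S := (Subgroup.center (↥S ⧸ Subgroup.center ↥S)).comap (QuotientGroup.mk' _)
  have hWmem : ∀ w, w ∈ W ↔ ∀ g, g * w * g⁻¹ * w⁻¹ ∈ Subgroup.center ↥S := by
    intro w
    simp only [W, Subgroup.mem_comap, Subgroup.mem_center_iff (G := ↥S ⧸ Subgroup.center ↥S)]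
    constructor
    · intro h g
      rw [← QuotientGroup.eq_one_iff]
      have h' := h (QuotientGroup.mk g)
      simp only [QuotientGroup.mk'_apply] at h'
      simp only [QuotientGroup.mk_mul, QuotientGroup.mk_inv]
      rw [h']
      group
    · intro h q
      obtain ⟨g, rfl⟩ := QuotientGroup.mk_surjective q
      have := (QuotientGroup.eq_one_iff _).mpr (h g)
      simp only [QuotientGroup.mk_mul, QuotientGroup.mk_inv] at this
      exact mul_inv_eq_iff_eq_mul.mp (mul_inv_eq_one.mp this)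
  have hWchar : W.Characteristic := by
    rw [Subgroup.characteristic_iff_map_le]
    intro φ
    rintro _ ⟨w, hw, rfl⟩
    refine (hWmem _).mpr fun g => ?_
    obtain ⟨g', rfl⟩ := φ.surjective g
    have := (Subgroup.centerCharacteristic (G := ↥S)).fixed φ
    have h := (hWmem w).mp hw g'
    rw [← this] at h
    simpa [Subgroup.mem_comap] using h
  have hDchar : D.Characteristic := inferInstance
  have hAchar : (D ⊓ W).Characteristic := by
    rw [Subgroup.characteristic_iff_comap_eq] at *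
    intro φ
    rw [Subgroup.comap_inf, hDchar φ, hWchar φ]
  have hWD : ∀ w ∈ W, ∀ d ∈ D, d * w = w * d := by
    intro w hw
    have hle : D ≤ Subgroup.centralizer {w} := by
      rw [show D = ⁅(⊤ : Subgroup ↥S), ⊤⁆ from rfl, Subgroup.commutator_le]
      intro g _ h _
      have hg := Subgroup.mem_center_iff.mp ((hWmem w).mp hw g)
      have hh := Subgroup.mem_center_iff.mp ((hWmem w).mp hw h)
      refine Subgroup.mem_centralizer_singleton_iff.mpr ?_
      -- conjugation by `g` and `h` multiplies `w` by commuting central elements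
      set cg := g * w * g⁻¹ * w⁻¹
      set ch := h * w * h⁻¹ * w⁻¹
      have e1 : g * w * g⁻¹ = cg * w := by simp [cg]
      have e2 : h * w * h⁻¹ = ch * w := by simp [ch]
      have e3 : g * h * g⁻¹ * h⁻¹ * w = w * (g * h * g⁻¹ * h⁻¹) := by
        have e2' : h⁻¹ * w * h = ch⁻¹ * w := by
          calc h⁻¹ * w * h = h⁻¹ * (ch⁻¹ * (ch * w)) * h := by group
            _ = (h⁻¹ * ch⁻¹) * (h * w * h⁻¹) * h := by rw [e2]; group
            _ = (ch⁻¹ * h⁻¹) * (h * w * h⁻¹) * h := by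
              rw [show h⁻¹ * ch⁻¹ = ch⁻¹ * h⁻¹ by rw [← mul_inv_rev, ← mul_inv_rev, hh h]]
            _ = _ := by group
        have e1' : g⁻¹ * w * g = cg⁻¹ * w := by
          calc g⁻¹ * w * g = g⁻¹ * (cg⁻¹ * (cg * w)) * g := by group
            _ = (g⁻¹ * cg⁻¹) * (g * w * g⁻¹) * g := by rw [e1]; group
            _ = (cg⁻¹ * g⁻¹) * (g * w * g⁻¹) * g := by
              rw [show g⁻¹ * cg⁻¹ = cg⁻¹ * g⁻¹ by rw [← mul_inv_rev, ← mul_inv_rev, hg g]]
            _ = _ := by group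
        have e4 : h * (cg * w) * h⁻¹ = cg * ch * w := by
          calc h * (cg * w) * h⁻¹ = (h * cg) * (w * h⁻¹) := by group
            _ = cg * (h * w * h⁻¹) := by rw [hg h]; group
            _ = _ := by rw [e2]; group
        have e5 : g * h * g⁻¹ * h⁻¹ * w * (g * h * g⁻¹ * h⁻¹)⁻¹ = w := by
          calc g * h * g⁻¹ * h⁻¹ * w * (g * h * g⁻¹ * h⁻¹)⁻¹
              = g * (h * (g⁻¹ * (h⁻¹ * w * h) * g) * h⁻¹) * g⁻¹ := by group
            _ = g * (h * ((g⁻¹ * ch⁻¹) * w * g) * h⁻¹) * g⁻¹ := by rw [e2']; group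
            _ = g * (h * ((ch⁻¹ * g⁻¹) * w * g) * h⁻¹) * g⁻¹ := by
              rw [show g⁻¹ * ch⁻¹ = ch⁻¹ * g⁻¹ by rw [← mul_inv_rev, ← mul_inv_rev, hh g]]
            _ = g * (h * (ch⁻¹ * (cg⁻¹ * w)) * h⁻¹) * g⁻¹ := by
              rw [show (ch⁻¹ * g⁻¹) * w * g = ch⁻¹ * (g⁻¹ * w * g) by group, e1']
            _ = g * ((h * (ch⁻¹ * cg⁻¹)) * w * h⁻¹) * g⁻¹ := by group
            _ = g * (((ch⁻¹ * cg⁻¹) * h) * w * h⁻¹) * g⁻¹ := by
              rw [show h * (ch⁻¹ * cg⁻¹) = (ch⁻¹ * cg⁻¹) * h from Subgroup.mem_center_iff.mp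
                ((Subgroup.center ↥S).mul_mem ((Subgroup.center ↥S).inv_mem ((hWmem w).mp hw h))
                  ((Subgroup.center ↥S).inv_mem ((hWmem w).mp hw g))) h]
            _ = (g * (ch⁻¹ * cg⁻¹)) * (h * w * h⁻¹) * g⁻¹ := by group
            _ = ((ch⁻¹ * cg⁻¹) * g) * (ch * w) * g⁻¹ := by
              rw [e2, show g * (ch⁻¹ * cg⁻¹) = (ch⁻¹ * cg⁻¹) * g from Subgroup.mem_center_iff.mp
                ((Subgroup.center ↥S).mul_mem ((Subgroup.center ↥S).inv_mem ((hWmem w).mp hw h))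
                  ((Subgroup.center ↥S).inv_mem ((hWmem w).mp hw g))) g]
            _ = (ch⁻¹ * cg⁻¹) * (g * ch) * w * g⁻¹ := by group
            _ = (ch⁻¹ * cg⁻¹ * ch) * (g * w * g⁻¹) := by rw [hh g]; group
            _ = (ch⁻¹ * (cg⁻¹ * ch)) * (cg * w) := by rw [e1]; group
            _ = (ch⁻¹ * (ch * cg⁻¹)) * (cg * w) := by rw [hh cg⁻¹]
            _ = w := by group
        exact mul_inv_eq_iff_eq_mul.mp e5
      exact e3
    intro d hd
    exact Subgroup.mem_centralizer_singleton_iff.mp (hle hd)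
  set A := D ⊓ W
  have hAc : IsMulCommutative ↥A :=
    ⟨⟨fun x y => Subtype.ext (hWD y y.2.2 x x.2.1)⟩⟩
  obtain ⟨x₀, hx₀D, hx₀Z, hx₀W⟩ := exists_central_mem_of_normal hS.1 D hD
  have hx₀A : x₀ ∈ A := ⟨hx₀D, (hWmem x₀).mpr hx₀W⟩
  have hcyA : IsCyclic ↥A := hS.2 A hAchar hAc
  obtain ⟨⟨x, hxA⟩, hgen⟩ := hcyA.exists_generator
  have hAx : ∀ v, v ∈ A ↔ v ∈ Subgroup.zpowers x := by
    intro v
    constructor
    · intro hv
      obtain ⟨m, hm⟩ := hgen ⟨v, hv⟩
      exact ⟨m, congrArg Subtype.val hm⟩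
    · rintro ⟨m, rfl⟩
      exact A.zpow_mem hxA m
  have hxZ : x ∉ Subgroup.center ↥S := fun h =>
    hx₀Z ((Subgroup.zpowers_le.mpr h) ((hAx _).mp hx₀A))
  have hx2 : x ^ 2 ≠ 1 := by
    intro h2
    refine hxZ (Subgroup.mem_center_iff.mpr fun g => ?_)
    have hn : A.Normal := inferInstance
    obtain ⟨m, hm⟩ := (hAx _).mp (hn.conj_mem x hxA g)
    rcases Int.even_or_odd' m with ⟨j, rfl | rfl⟩ <;> simp only [zpow_add, zpow_mul, zpow_one] at hm <;>
      rw [show x ^ (2 : ℤ) = 1 from (zpow_natCast x 2).trans h2, one_zpow] at hm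
    · have : x = 1 := by
        calc x = g⁻¹ * (g * x * g⁻¹) * g := by group
          _ = 1 := by rw [← hm]; group
      rw [this]; simp
    · rw [one_mul] at hm
      exact mul_inv_eq_iff_eq_mul.mp hm.symm
  have hxord : orderOf x = 4 := by
    have h1 : x ≠ 1 := fun h => hx2 (by rw [h, one_pow])
    have := orderOf_eq_prime_pow (p := 2) (n := 1) (x := x) (by simpa using hx2) (by simpa using hT4 x)
    simpa using this
  have hAelt : ∀ v ∈ A, v = 1 ∨ v = x ∨ v = x ^ 2 ∨ v = x⁻¹ := by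
    intro v hv
    obtain ⟨m, hm, rfl⟩ : ∃ m, m < 4 ∧ x ^ m = v := by
      obtain ⟨m, rfl⟩ := (hAx v).mp hv
      refine ⟨(m % 4).toNat, by omega, ?_⟩
      simp only
      rw [← zpow_natCast, Int.toNat_of_nonneg (by omega)]
      conv_rhs => rw [show m = m % 4 + 4 * (m / 4) by omega]
      rw [zpow_add, zpow_mul, show x ^ (4 : ℤ) = 1 from (zpow_natCast x 4).trans (hT4 x), one_zpow, mul_one]
    interval_cases m
    · left; simp
    · right; left; simp
    · right; right; left; rfl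
    · right; right; right
      exact eq_inv_of_mul_eq_one_left (by rw [← pow_succ, hT4])
  have hAn : A.Normal := inferInstance
  have hconj : ∀ g, g * x * g⁻¹ = x ∨ g * x * g⁻¹ = x⁻¹ := by
    intro g
    have hinj : ∀ v, g * v * g⁻¹ = 1 → v = 1 := fun v h => by
      calc v = g⁻¹ * (g * v * g⁻¹) * g := by group
        _ = 1 := by rw [h]; group
    rcases hAelt _ (hAn.conj_mem x hxA g) with h | h | h | h
    · exact absurd (hinj x h) (fun e => hx2 (by rw [e, one_pow]))
    · exact Or.inl h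
    · refine absurd (hinj (x ^ 2) ?_) hx2
      rw [show g * x ^ 2 * g⁻¹ = (g * x * g⁻¹) ^ 2 by rw [conj_pow], h, ← pow_mul, hT4]
    · exact Or.inr h
  have hx2c : x ^ 2 ∈ Subgroup.center ↥S := Subgroup.mem_center_iff.mpr fun g => by
    have : g * x ^ 2 * g⁻¹ = x ^ 2 := by
      rw [← conj_pow]
      rcases hconj g with h | h <;> rw [h]
      rw [inv_pow]
      exact inv_eq_of_mul_eq_one_right (by rw [← pow_add, hT4])
    exact mul_inv_eq_iff_eq_mul.mp this
  set C := Subgroup.centralizer (A : Set ↥S) with hC_def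
  have hCchar : C.Characteristic := inferInstance
  have hxC : x ∈ C := Subgroup.mem_centralizer_iff.mpr fun v hv => by
    obtain ⟨m, rfl⟩ := (hAx v).mp hv
    exact ((Commute.refl x).zpow_left m).eq
  have hCiff : ∀ g, g ∈ C ↔ g * x * g⁻¹ = x := by
    intro g
    constructor
    · intro h
      rw [← Subgroup.mem_centralizer_iff.mp h x hxA, mul_inv_cancel_right]
    · intro h
      refine Subgroup.mem_centralizer_iff.mpr fun v hv => ?_
      obtain ⟨m, rfl⟩ := (hAx v).mp hv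
      exact ((show Commute x g from (mul_inv_eq_iff_eq_mul.mp h).symm).zpow_left m).eq
  obtain ⟨q, hqC⟩ : ∃ q, q ∉ C := by
    by_contra h
    push Not at h
    exact hxZ (Subgroup.mem_center_iff.mpr fun g => mul_inv_eq_iff_eq_mul.mp ((hCiff g).mp (h g)))
  have hqx : q * x * q⁻¹ = x⁻¹ := (hconj q).resolve_left fun h => hqC ((hCiff q).mpr h)
  have hsplit : ∀ g, g ∈ C ∨ g * q⁻¹ ∈ C := by
    intro g
    by_cases hg : g ∈ C
    · exact Or.inl hg
    · refine Or.inr ((hCiff _).mpr ?_)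
      have h1 := (hconj g).resolve_left fun h => hg ((hCiff g).mpr h)
      have h2 : q⁻¹ * x * q = x⁻¹ := by
        calc q⁻¹ * x * q = q⁻¹ * (q * x * q⁻¹)⁻¹ * q := by rw [hqx, inv_inv]
          _ = x⁻¹ := by group
      calc g * q⁻¹ * x * (g * q⁻¹)⁻¹ = g * (q⁻¹ * x * q) * g⁻¹ := by group
        _ = (g * x * g⁻¹)⁻¹ := by rw [h2]; group
        _ = x := by rw [h1, inv_inv]
  -- induction inside `C`
  have hCsym := symplecticType_subgroup hS C
  let C' : Subgroup T := C.map S.subtype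
  have hlt : Nat.card ↥C' < n := by
    rw [← hSn, Subgroup.card_map_of_injective S.subtype_injective]
    exact lt_of_le_of_ne C.card_le_card_group fun h => hqC (Subgroup.eq_top_of_card_eq C h ▸ Subgroup.mem_top q)
  have hC'sym : Cfsg.IsOfSymplecticType ↥C' := by
    let e : ↥C ≃* ↥C' := C.equivMapOfInjective S.subtype S.subtype_injective
    refine ⟨hCsym.1.of_equiv e, fun B hB hBc => ?_⟩
    have h1 : (B.comap e.toMonoidHom).Characteristic := by
      rw [Subgroup.characteristic_iff_comap_eq]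
      intro φ
      have := hB.fixed ((e.symm.trans φ).trans e)
      ext v
      simp only [Subgroup.mem_comap, MulEquiv.coe_toMonoidHom]
      have h := SetLike.ext_iff.mp this (e v)
      simpa using h
    have h2 : IsMulCommutative ↥(B.comap e.toMonoidHom) :=
      ⟨⟨fun u v => Subtype.ext (e.injective ((map_mul e u.1 v.1).trans
        ((congrArg Subtype.val (hBc.is_comm.comm ⟨e u.1, u.2⟩ ⟨e v.1, v.2⟩)).trans
          (map_mul e v.1 u.1).symm)))⟩⟩
    have h3 := hCsym.2 _ h1 h2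
    have : B = (B.comap e.toMonoidHom).map e.toMonoidHom :=
      (Subgroup.map_comap_eq_self_of_surjective e.surjective B).symm
    rw [this]
    exact ((B.comap e.toMonoidHom).equivMapOfInjective e.toMonoidHom e.injective).isCyclic.mp h3
  have hIH : ∀ c ∈ C, ∀ d ∈ C, (∀ e ∈ C, e * (c * d * c⁻¹ * d⁻¹) = (c * d * c⁻¹ * d⁻¹) * e) ∧
      (c * d * c⁻¹ * d⁻¹) * (c * d * c⁻¹ * d⁻¹) = 1 := by
    intro c hc d hd
    obtain ⟨h1, h2⟩ := ih _ hlt C' rfl hC'sym c ⟨c, hc, rfl⟩ d ⟨d, hd, rfl⟩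
    exact ⟨fun e he => Subtype.ext (by simpa using h1 e ⟨e, he, rfl⟩), Subtype.ext (by simpa using h2)⟩
  -- the centre of `C` is `A`
  have hZC : ∀ v ∈ C, (∀ e ∈ C, e * v = v * e) → v ∈ A := by
    intro v hv hvc
    have hcy : IsCyclic ↥(Subgroup.center ↥C) := hCsym.2 _ inferInstance inferInstance
    have hxc : (⟨x, hxC⟩ : ↥C) ∈ Subgroup.center ↥C := Subgroup.mem_center_iff.mpr fun e =>
      Subtype.ext ((Subgroup.mem_centralizer_iff.mp e.2 x hxA).symm)
    have hvcc : (⟨v, hv⟩ : ↥C) ∈ Subgroup.center ↥C := Subgroup.mem_center_iff.mpr fun e =>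
      Subtype.ext (hvc e e.2)
    obtain ⟨⟨w, hw⟩, hwgen⟩ := hcy.exists_generator
    obtain ⟨i, hi⟩ := hwgen ⟨_, hxc⟩
    obtain ⟨j, hj⟩ := hwgen ⟨_, hvcc⟩
    have hi' : (w : ↥S) ^ i = x := by
      have := congrArg (fun z : ↥(Subgroup.center ↥C) => ((z : ↥C) : ↥S)) hi
      simpa using this
    have hj' : (w : ↥S) ^ j = v := by
      have := congrArg (fun z : ↥(Subgroup.center ↥C) => ((z : ↥C) : ↥S)) hj
      simpa using this
    rcases Int.even_or_odd' i with ⟨k, rfl | rfl⟩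
    · refine absurd ?_ hx2
      rw [← hi', ← zpow_natCast, ← zpow_mul, show 2 * k * ((2 : ℕ) : ℤ) = 4 * k by push_cast; ring,
        zpow_mul, show (w : ↥S) ^ (4 : ℤ) = 1 from (zpow_natCast _ 4).trans (hT4 _), one_zpow]
    · have hwx : (w : ↥S) ∈ A := by
        refine (hAx _).mpr ⟨2 * k + 1, ?_⟩
        simp only
        rw [← hi', ← zpow_mul, show (2 * k + 1) * (2 * k + 1) = 4 * (k * k + k) + 1 by ring, zpow_add,
          zpow_mul, show (w : ↥S) ^ (4 : ℤ) = 1 from (zpow_natCast _ 4).trans (hT4 _), one_zpow, one_mul,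
          zpow_one]
      exact hj' ▸ A.zpow_mem hwx j
  set Z0 : Subgroup ↥S := Subgroup.zpowers (x ^ 2) with hZ0
  have hZ0mem : ∀ v ∈ A, v * v = 1 → v ∈ Z0 := by
    intro v hv hvv
    rcases hAelt v hv with rfl | rfl | rfl | rfl
    · exact Z0.one_mem
    · exact absurd (by rw [pow_two, hvv]) hx2
    · exact Subgroup.mem_zpowers _
    · exact absurd (by
        rw [← mul_inv_rev] at hvv
        rw [pow_two, inv_eq_one.mp hvv]) hx2
  have hCC : ∀ c ∈ C, ∀ d ∈ C, c * d * c⁻¹ * d⁻¹ ∈ Z0 := fun c hc d hd =>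
    hZ0mem _ (hZC _ (C.mul_mem (C.mul_mem (C.mul_mem hc hd) (C.inv_mem hc)) (C.inv_mem hd))
      (hIH c hc d hd).1) (hIH c hc d hd).2
  have hZ0c : Z0 ≤ Subgroup.center ↥S := Subgroup.zpowers_le.mpr hx2c
  have hZ0A : Z0 ≤ A := Subgroup.zpowers_le.mpr (A.pow_mem hxA 2)
  have hCn : C.Normal := inferInstance
  -- the bracket on `C`
  let br : ↥S → ↥S → ↥S := fun u v => u * v * u⁻¹ * v⁻¹
  have brc : ∀ u ∈ C, ∀ v ∈ C, ∀ g, g * br u v = br u v * g := fun u hu v hv g =>
    Subgroup.mem_center_iff.mp (hZ0c (hCC u hu v hv)) g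
  have brl : ∀ u ∈ C, ∀ v ∈ C, ∀ w ∈ C, br (u * v) w = br u w * br v w := by
    intro u hu v hv w hw
    calc br (u * v) w = u * (br v w * (w * u⁻¹ * w⁻¹)) := by simp only [br]; group
      _ = u * ((w * u⁻¹ * w⁻¹) * br v w) := by rw [← brc v hv w hw]
      _ = _ := by simp only [br]; group
  have brr : ∀ w ∈ C, ∀ v ∈ C, ∀ u ∈ C, br w (v * u) = br w v * br w u := by
    intro w hw v hv u hu
    calc br w (v * u) = (w * v * w⁻¹) * (br w u * v⁻¹) := by simp only [br]; group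
      _ = (w * v * w⁻¹) * (v⁻¹ * br w u) := by rw [← brc w hw u hu]
      _ = _ := by simp only [br]; group
  have brz : ∀ w, ∀ e ∈ Subgroup.center ↥S, br w e = 1 := fun w e he => by
    simp only [br]; rw [Subgroup.mem_center_iff.mp he w]; group
  have brz' : ∀ w, ∀ e ∈ Subgroup.center ↥S, br e w = 1 := fun w e he => by
    simp only [br]; rw [← Subgroup.mem_center_iff.mp he w]; group
  have hq2 : q * q ∈ C := by
    refine (hCiff _).mpr ?_
    calc q * q * x * (q * q)⁻¹ = q * (q * x * q⁻¹) * q⁻¹ := by group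
      _ = q * x⁻¹ * q⁻¹ := by rw [hqx]
      _ = (q * x * q⁻¹)⁻¹ := by group
      _ = x := by rw [hqx, inv_inv]
  have hd : ∀ c ∈ C, br q c ∈ C := fun c hc => C.mul_mem (hCn.conj_mem c hc q) (C.inv_mem hc)
  have hqd : ∀ c ∈ C, br (q * q) c ∈ Z0 := fun c hc => hCC _ hq2 _ hc
  -- `E` is an abelian subgroup containing the derived group
  have hdd : ∀ c ∈ C, ∀ e ∈ C, Commute (br q c) (br q e) := by
    intro c hc e he
    set u := br q c with hu
    have huC : u ∈ C := hd c hc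
    have hqeC : q * e * q⁻¹ ∈ C := hCn.conj_mem e he q
    have hq'u : q⁻¹ * u * q ∈ C := by
      have := hCn.conj_mem u huC q⁻¹
      rwa [inv_inv] at this
    have h1 : br u (q * e * q⁻¹) = br (q⁻¹ * u * q) e := by
      calc br u (q * e * q⁻¹) = q * br (q⁻¹ * u * q) e * q⁻¹ := by simp only [br]; group
        _ = _ := by rw [brc _ hq'u e he q, mul_inv_cancel_right]
    obtain ⟨ζ, hζ, hζe⟩ : ∃ ζ ∈ Z0, q * u * q⁻¹ = ζ * u⁻¹ := by
      refine ⟨_, hqd c hc, ?_⟩
      simp only [hu, br]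
      group
    have h3 : q⁻¹ * u * q = br ((q * q)⁻¹) (q * u * q⁻¹) * (q * u * q⁻¹) := by simp only [br]; group
    have hqu : q * u * q⁻¹ ∈ C := hCn.conj_mem u huC q
    have hb : br ((q * q)⁻¹) (q * u * q⁻¹) ∈ Z0 := hCC _ (C.inv_mem hq2) _ hqu
    set ζ' := br ((q * q)⁻¹) (q * u * q⁻¹)
    have hζC : ∀ v ∈ Z0, v ∈ C := fun v hv => Subgroup.mem_centralizer_iff.mpr fun y _ =>
      Subgroup.mem_center_iff.mp (hZ0c hv) y
    have h4 : br (q⁻¹ * u * q) e = br u⁻¹ e := by
      rw [h3, hζe, brl _ (hζC _ hb) _ (C.mul_mem (hζC _ hζ) (C.inv_mem huC)) _ he,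
        brl _ (hζC _ hζ) _ (C.inv_mem huC) _ he, brz' _ _ (hZ0c hb), brz' _ _ (hZ0c hζ), one_mul, one_mul]
    have h5 : br u⁻¹ e * br u e = 1 := by
      rw [← brl _ (C.inv_mem huC) _ huC _ he, inv_mul_cancel]; simp [br]
    have h6 : br u e * br u e = 1 := (hIH u huC e he).2
    have h7 : br u⁻¹ e = br u e := mul_right_cancel (h5.trans h6.symm)
    have h8 : br u (br q e) = 1 := by
      have : br q e = q * e * q⁻¹ * e⁻¹ := rfl
      rw [this, brr _ huC _ hqeC _ (C.inv_mem he), h1, h4, h7, ← brr _ huC _ he _ (C.inv_mem he),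
        mul_inv_cancel]
      simp [br]
    exact mul_inv_eq_iff_eq_mul.mp (mul_inv_eq_one.mp h8)
  let gens : Set ↥S := (A : Set ↥S) ∪ (fun c => br q c) '' (C : Set ↥S)
  set E := Subgroup.closure gens with hE_def
  have hEC : E ≤ C := by
    rw [hE_def, Subgroup.closure_le]
    rintro v (hv | ⟨c, hc, rfl⟩)
    · exact Subgroup.mem_centralizer_iff.mpr fun y hy =>
        congrArg Subtype.val (hAc.is_comm.comm ⟨y, hy⟩ ⟨v, hv⟩)
    · exact hd c hc
  have hEcomm : ∀ u ∈ E, ∀ v ∈ E, u * v = v * u := by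
    have hgg : ∀ u ∈ gens, ∀ v ∈ gens, u * v = v * u := by
      rintro u (hu | ⟨c, hc, rfl⟩) v (hv | ⟨e, he, rfl⟩)
      · exact congrArg Subtype.val (hAc.is_comm.comm ⟨u, hu⟩ ⟨v, hv⟩)
      · exact Subgroup.mem_centralizer_iff.mp (hd e he) u hu
      · exact (Subgroup.mem_centralizer_iff.mp (hd c hc) v hv).symm
      · exact hdd c hc e he
    have h1 : E ≤ Subgroup.centralizer gens := by
      rw [hE_def, Subgroup.closure_le]
      intro u hu
      exact Subgroup.mem_centralizer_iff.mpr fun v hv => hgg v hv u hu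
    have h2 : E ≤ Subgroup.centralizer (E : Set ↥S) := by
      conv_lhs => rw [hE_def]
      rw [Subgroup.closure_le]
      intro u hu
      exact Subgroup.mem_centralizer_iff.mpr fun v hv => (Subgroup.mem_centralizer_iff.mp (h1 hv) u hu).symm
    exact fun u hu v hv => Subgroup.mem_centralizer_iff.mp (h2 hv) u hu
  have hAE : A ≤ E := fun v hv => Subgroup.subset_closure (Or.inl hv)
  have hdE : ∀ c ∈ C, br q c ∈ E := fun c hc => Subgroup.subset_closure (Or.inr ⟨c, hc, rfl⟩)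
  have hCCE : ∀ c ∈ C, ∀ d ∈ C, br c d ∈ E := fun c hc d hd => hAE (hZ0A (hCC c hc d hd))
  have hDE : D ≤ E := by
    have hcq : ∀ c₁ ∈ C, ∀ c₂ ∈ C, br (c₁ * q) c₂ ∈ E := by
      intro c₁ h₁ c₂ h₂
      have : br (c₁ * q) c₂ = br c₁ (br q c₂) * br q c₂ * br c₁ c₂ := by simp only [br]; group
      rw [this]
      exact E.mul_mem (E.mul_mem (hCCE _ h₁ _ (hd _ h₂)) (hdE _ h₂)) (hCCE _ h₁ _ h₂)
    rw [show D = ⁅(⊤ : Subgroup ↥S), ⊤⁆ from rfl, Subgroup.commutator_le]
    intro g _ h _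
    show br g h ∈ E
    rcases hsplit g with hg | hg <;> rcases hsplit h with hh | hh
    · exact hCCE g hg h hh
    · have := hcq _ hh _ hg
      rw [inv_mul_cancel_right] at this
      have e : br g h = (br h g)⁻¹ := by simp only [br]; group
      rw [e]; exact E.inv_mem this
    · have := hcq _ hg _ hh
      rwa [inv_mul_cancel_right] at this
    · have h12 := C.mul_mem hh (C.inv_mem hg)
      have e : br g h = br (g * q⁻¹) (br q (h * q⁻¹ * (g * q⁻¹)⁻¹)) *
          br q (h * q⁻¹ * (g * q⁻¹)⁻¹) * br (g * q⁻¹) (h * q⁻¹) := by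
        simp only [br]; group
      rw [e]
      exact E.mul_mem (E.mul_mem (hCCE _ hg _ (hd _ h12)) (hdE _ h12)) (hCCE _ hg _ hh)
  have hDc : IsMulCommutative ↥D :=
    ⟨⟨fun u v => Subtype.ext (hEcomm u (hDE u.2) v (hDE v.2))⟩⟩
  have hcyD : IsCyclic ↥D := hS.2 D hDchar hDc
  have hxD : x ∈ D := hxA.1
  have hDA : D ≤ A := by
    intro v hv
    obtain ⟨⟨w, hw⟩, hwgen⟩ := hcyD.exists_generator
    obtain ⟨i, hi⟩ := hwgen ⟨x, hxD⟩
    obtain ⟨j, hj⟩ := hwgen ⟨v, hv⟩
    have hi' : w ^ i = x := congrArg Subtype.val hi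
    rcases Int.even_or_odd' i with ⟨k, rfl | rfl⟩
    · refine absurd ?_ hx2
      rw [← hi', ← zpow_natCast, ← zpow_mul, show 2 * k * ((2 : ℕ) : ℤ) = 4 * k by push_cast; ring,
        zpow_mul, show w ^ (4 : ℤ) = 1 from (zpow_natCast _ 4).trans (hT4 _), one_zpow]
    · have hwx : w ∈ A := by
        refine (hAx _).mpr ⟨2 * k + 1, ?_⟩
        simp only
        rw [← hi', ← zpow_mul, show (2 * k + 1) * (2 * k + 1) = 4 * (k * k + k) + 1 by ring, zpow_add,
          zpow_mul, show w ^ (4 : ℤ) = 1 from (zpow_natCast _ 4).trans (hT4 _), one_zpow, one_mul, zpow_one]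
      have hj' : w ^ j = v := congrArg Subtype.val hj
      exact hj' ▸ A.zpow_mem hwx j
  -- some `br q c` has order four
  have hbad : ∀ c ∈ C, br q c ∈ Z0 := by
    intro c hc
    set d := br q c
    have hdA : d ∈ A := hDA (Subgroup.commutator_mem_commutator (Subgroup.mem_top q) (Subgroup.mem_top c))
    refine hZ0mem d hdA ?_
    have hc2A : c * c ∈ A := by
      refine hZC _ (C.mul_mem hc hc) fun e he => ?_
      have h1 : br e (c * c) = 1 := (brr e he c hc c hc).trans (hIH e he c hc).2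
      exact mul_inv_eq_iff_eq_mul.mp (mul_inv_eq_one.mp h1)
    have hinv : ∀ v ∈ A, q * v * q⁻¹ = v⁻¹ := by
      intro v hv
      obtain ⟨m, rfl⟩ := (hAx v).mp hv
      rw [← conj_zpow, hqx, inv_zpow]
    have hdc : Commute d c := Subgroup.mem_centralizer_iff.mp hc d hdA
    have h1 : (d * c) * (d * c) = (c * c)⁻¹ := by
      rw [← hinv _ hc2A]
      have : d * c = q * c * q⁻¹ := by simp [d, br, mul_assoc]
      rw [this]; group
    calc d * d = (d * d) * ((c * c) * (c * c)) := by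
          rw [show (c * c) * (c * c) = c ^ 4 by simp only [pow_succ, pow_zero, one_mul]; group, hT4, mul_one]
      _ = ((d * d) * (c * c)) * (c * c) := by group
      _ = ((d * c) * (d * c)) * (c * c) := by
          rw [show d * d * (c * c) = d * (d * c) * c by group, show d * (d * c) * c = d * (c * d) * c by rw [hdc.eq]]
          group
      _ = 1 := by rw [h1]; group
  have hZ0n : Z0.Normal := ⟨fun v hv g => by
    rw [Subgroup.mem_center_iff.mp (hZ0c hv) g, mul_inv_cancel_right]; exact hv⟩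
  have hDZ : D ≤ Z0 := by
    rw [show D = ⁅(⊤ : Subgroup ↥S), ⊤⁆ from rfl, Subgroup.commutator_le]
    intro g _ h _
    show br g h ∈ Z0
    have hcq : ∀ c₁ ∈ C, ∀ c₂ ∈ C, br (c₁ * q) c₂ ∈ Z0 := by
      intro c₁ h₁ c₂ h₂
      have : br (c₁ * q) c₂ = br c₁ (br q c₂) * br q c₂ * br c₁ c₂ := by simp only [br]; group
      rw [this]
      exact Z0.mul_mem (Z0.mul_mem (hCC _ h₁ _ (hd _ h₂)) (hbad _ h₂)) (hCC _ h₁ _ h₂)
    rcases hsplit g with hg | hg <;> rcases hsplit h with hh | hh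
    · exact hCC g hg h hh
    · have := hcq _ hh _ hg
      rw [inv_mul_cancel_right] at this
      have e : br g h = (br h g)⁻¹ := by simp only [br]; group
      rw [e]; exact Z0.inv_mem this
    · have := hcq _ hg _ hh
      rwa [inv_mul_cancel_right] at this
    · have h12 := C.mul_mem hh (C.inv_mem hg)
      have e : br g h = br (g * q⁻¹) (br q (h * q⁻¹ * (g * q⁻¹)⁻¹)) *
          br q (h * q⁻¹ * (g * q⁻¹)⁻¹) * br (g * q⁻¹) (h * q⁻¹) := by
        simp only [br]; group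
      rw [e]
      exact Z0.mul_mem (Z0.mul_mem (hCC _ hg _ (hd _ h12)) (hbad _ h12)) (hCC _ hg _ hh)
  exact hxZ (hZ0c (hDZ hxD))

end CfsgLib.KSteps
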