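import Cfsg.Agent.Lib.KSteps.Basic
import Mathlib.GroupTheory.Frattini
import Mathlib.GroupTheory.Nilpotent
import Mathlib.Algebra.Group.Subgroup.Order
import Mathlib.RingTheory.Coprime.Lemmas
import Mathlib.Tactic.Ring

set_option autoImplicit false

namespace CfsgLib.KSteps

/-- A finite group of exponent two has trivial Frattini subgroup. -/
theorem frattini_eq_bot_of_sq {R : Type*} [Group R] [Finite R] (h : ∀ r : R, r ^ 2 = 1) :
    frattini R = ⊥ := by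
  have hinv : ∀ r : R, r⁻¹ = r := fun r => inv_eq_of_mul_eq_one_right (by rw [← pow_two, h])
  have hcomm : ∀ a b : R, a * b = b * a := fun a b => by
    have := hinv (a * b)
    rwa [mul_inv_rev, hinv, hinv, eq_comm] at this
  rw [eq_bot_iff]
  intro x hx
  rw [Subgroup.mem_bot]
  by_contra hx1
  obtain ⟨K, hK⟩ := (Set.toFinite {K : Subgroup R | x ∉ K}).exists_maximal
    ⟨⊥, by simpa using hx1⟩
  obtain ⟨hKx, hKmax⟩ := hK
  have hsplit : ∀ y ∉ K, x * y ∈ K := by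
    intro y hy
    have hKn : K.Normal := ⟨fun n hn g => by rwa [hcomm g n, mul_inv_cancel_right]⟩
    have hxmem : x ∈ K ⊔ Subgroup.zpowers y := by
      by_contra hc
      exact hy (hKmax hc le_sup_left (Subgroup.mem_sup_right (Subgroup.mem_zpowers y)))
    rw [← SetLike.mem_coe, Subgroup.normal_mul] at hxmem
    obtain ⟨k, hk, _, ⟨n, rfl⟩, hkn⟩ := hxmem
    rcases Int.even_or_odd' n with ⟨m, rfl | rfl⟩
    · simp only at hkn
      rw [zpow_mul, show y ^ (2 : ℤ) = 1 from (zpow_natCast y 2).trans (h y), one_zpow, mul_one] at hkn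
      exact absurd (hkn ▸ hk) hKx
    · simp only at hkn
      rw [zpow_add, zpow_mul, show y ^ (2 : ℤ) = 1 from (zpow_natCast y 2).trans (h y), one_zpow,
        one_mul, zpow_one] at hkn
      have : x * y = k := by rw [← hkn, mul_assoc, ← pow_two, h, mul_one]
      exact this ▸ hk
  have hco : IsCoatom K := by
    refine ⟨fun hT => hKx (hT ▸ Subgroup.mem_top x), fun L hL => ?_⟩
    have hxL : x ∈ L := by
      by_contra hc
      exact hL.not_ge (hKmax hc hL.le)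
    rw [Subgroup.eq_top_iff']
    intro y
    by_cases hy : y ∈ K
    · exact hL.le hy
    · have h2 := L.mul_mem (L.inv_mem hxL) (hL.le (hsplit y hy))
      rwa [inv_mul_cancel_left] at h2
  exact hKx (frattini_le_coatom hco hx)

/-- An invariant family of equal-order TI subgroups, one of whose members has an element `r` with
`r ^ 2 ≠ 1`, in a finite `2`-group: the members commute pairwise. -/
theorem ti_family_commute {S : Type*} [Group S] [Finite S] (hS : IsPGroup 2 S)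
    (Δ : Set (Subgroup S)) (hinv : ∀ s : S, ∀ R ∈ Δ, R.map (MulAut.conj s).toMonoidHom ∈ Δ)
    (hexp : ∀ R ∈ Δ, ∃ r ∈ R, r ^ 2 ≠ 1) (hord : ∀ R ∈ Δ, ∀ T ∈ Δ, Nat.card ↥R = Nat.card ↥T)
    (hti : ∀ R ∈ Δ, ∀ T ∈ Δ, R = T ∨ R ⊓ T = ⊥) :
    ∀ R ∈ Δ, ∀ T ∈ Δ, R ≠ T → ∀ r ∈ R, ∀ t ∈ T, r * t = t * r := by
  have : Fact (Nat.Prime 2) := ⟨Nat.prime_two⟩
  suffices ∀ n : ℕ, ∀ M : Subgroup S, Nat.card ↥M = n → ∀ R ∈ Δ, ∀ T ∈ Δ, R ≤ M → T ≤ M → R ≠ T →
      ∀ r ∈ R, ∀ t ∈ T, r * t = t * r from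
    fun R hR T hT => this _ ⊤ rfl R hR T hT le_top le_top
  intro n
  induction n using Nat.strong_induction_on with
  | _ n ih =>
  intro M hMn R hR T hT hRM hTM hne
  -- all conjugates of a member inside `M` commute pairwise
  have hclass : ∀ U ∈ Δ, U ≤ M → U ≠ M → ∀ g ∈ M,
      U.map (MulAut.conj g).toMonoidHom ≠ U → ∀ u ∈ U, ∀ v ∈ U, u * (g * v * g⁻¹) = (g * v * g⁻¹) * u := by
    intro U hU hUM hUne g hg hneU u hu v hv
    have hne' : U.subgroupOf M ≠ ⊤ := fun h =>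
      hUne (le_antisymm hUM (Subgroup.subgroupOf_eq_top.mp h))
    obtain ⟨K, hK, hUK⟩ := (eq_top_or_exists_le_coatom (U.subgroupOf M)).resolve_left hne'
    have : Group.IsNilpotent ↥M := (hS.to_subgroup M).isNilpotent
    have hKn : K.Normal :=
      Subgroup.NormalizerCondition.normal_of_coatom K Group.normalizerCondition_of_isNilpotent hK
    have hlt : Nat.card ↥(K.map M.subtype) < n := by
      rw [← hMn, Subgroup.card_map_of_injective M.subtype_injective]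
      exact lt_of_le_of_ne K.card_le_card_group fun h => hK.1 (Subgroup.eq_top_of_card_eq K h)
    refine ih _ hlt _ rfl U hU _ (hinv g U hU) ?_ ?_ (Ne.symm hneU) u hu _ ⟨v, hv, by simp⟩
    · exact fun x hx => ⟨⟨x, hUM hx⟩, hUK hx, rfl⟩
    · rintro _ ⟨x, hx, rfl⟩
      exact ⟨_, hKn.conj_mem ⟨x, hUM hx⟩ (hUK hx) ⟨g, hg⟩, by simp⟩
  have hproper : ∀ U ∈ Δ, ∀ V ∈ Δ, V ≤ M → U ≠ V → U ≠ M := by
    intro U hU V hV hVM hUV hUM
    exact hUV (Subgroup.eq_of_le_of_card_ge (hUM ▸ hVM) (hord U hU V hV).le).symm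
  by_cases hTN : ∀ t ∈ T, R.map (MulAut.conj t).toMonoidHom = R
  · refine commute_of_ti_normalizes R T (fun g _ => hti _ (hinv g T hT) T hT) (hord R hR T hT).le
      ((hti R hR T hT).resolve_left hne) ?_
    intro t ht x hx
    rw [← hTN t ht]
    exact ⟨x, hx, by simp⟩
  exfalso
  push Not at hTN
  obtain ⟨t₀, ht₀, ht₀n⟩ := hTN
  classical
  obtain ⟨k, hk⟩ := hS t₀
  have hex : ∃ j, R.map (MulAut.conj (t₀ ^ 2 ^ j)).toMonoidHom = R :=
    ⟨k, by rw [hk, map_one]; exact Subgroup.map_id R⟩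
  obtain ⟨j, hj⟩ : ∃ j, Nat.find hex = j + 1 := by
    refine Nat.exists_eq_succ_of_ne_zero fun h0 => ht₀n ?_
    have := Nat.find_spec hex
    rwa [h0, pow_zero, pow_one] at this
  set t := t₀ ^ 2 ^ j with ht_def
  have ht : t ∈ T := T.pow_mem ht₀ _
  have htM : t ∈ M := hTM ht
  have htn : R.map (MulAut.conj t).toMonoidHom ≠ R := Nat.find_min hex (by omega)
  have htsq : R.map (MulAut.conj (t * t)).toMonoidHom = R := by
    have := Nat.find_spec hex
    rwa [hj, pow_succ, pow_mul, ← ht_def, pow_two] at this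
  have hRT : R ≠ M := hproper R hR T hT hTM hne
  have hTR : T ≠ M := hproper T hT R hR hRM hne.symm
  -- the elements of `R` commute with those of `t R t⁻¹`
  have hcR : ∀ u ∈ R, ∀ v ∈ R, u * (t * v * t⁻¹) = (t * v * t⁻¹) * u :=
    hclass R hR hRM hRT t htM htn
  have hdisj : ∀ x ∈ R, ∀ y ∈ R, x = t * y * t⁻¹ → x = 1 := by
    intro x hx y hy hxy
    rw [← Subgroup.mem_bot, ← (hti R hR _ (hinv t R hR)).resolve_left htn.symm]
    exact ⟨hx, y, hy, by simp [hxy]⟩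
  -- the commutators `r t r⁻¹ t⁻¹` normalize `T`
  have hnorm : ∀ r ∈ R, ∀ s ∈ T, (r * t * r⁻¹ * t⁻¹) * s * (r * t * r⁻¹ * t⁻¹)⁻¹ ∈ T := by
    intro r hr s hs
    have h1 : t⁻¹ * s * t ∈ T := T.mul_mem (T.mul_mem (T.inv_mem ht) hs) ht
    have h2 : r * t * r⁻¹ * (t⁻¹ * s * t) * (r * t * r⁻¹)⁻¹ ∈ T := by
      by_cases hTr : T.map (MulAut.conj r).toMonoidHom = T
      · have h3 : r * t * r⁻¹ ∈ T := hTr ▸ ⟨t, ht, by simp⟩
        exact T.mul_mem (T.mul_mem h3 h1) (T.inv_mem h3)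
      · rw [← hclass T hT hTM hTR r (hRM hr) hTr _ h1 t ht, mul_inv_cancel_right]
        exact h1
    have e : r * t * r⁻¹ * t⁻¹ * s * (r * t * r⁻¹ * t⁻¹)⁻¹ =
        r * t * r⁻¹ * (t⁻¹ * s * t) * (r * t * r⁻¹)⁻¹ := by group
    rw [e]
    exact h2
  have hd : ∀ r ∈ R, r * (t * r⁻¹ * t⁻¹) = (r * t * r⁻¹ * t⁻¹) := fun r _ => by group
  have hexp' : ∀ r ∈ R, r * (t * r * t⁻¹)⁻¹ * t = t * (r * (t * r * t⁻¹)⁻¹) := by
    intro r hr
    set d := r * t * r⁻¹ * t⁻¹ with hd'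
    have hd'' : r * (t * r * t⁻¹)⁻¹ = d := by rw [hd']; group
    rw [hd'']
    by_contra hdt
    have hs : d * t * d⁻¹ * t⁻¹ ∈ T := T.mul_mem (hnorm r hr t ht) (T.inv_mem ht)
    have hs1 : d * t * d⁻¹ * t⁻¹ ≠ 1 := fun h =>
      hdt (mul_inv_eq_iff_eq_mul.mp (mul_inv_eq_one.mp h))
    -- a central element of `R`
    obtain ⟨z, hz, hz1, hzc⟩ := exists_fixed_of_normalizes R R (hS.to_subgroup _) (hS.to_subgroup _)
      (by
        intro hbot
        obtain ⟨x, hx, hx2⟩ := hexp R hR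
        rw [hbot, Subgroup.mem_bot] at hx
        exact hx2 (by rw [hx, one_pow]))
      (fun g hg x hx => R.mul_mem (R.mul_mem hg hx) (R.inv_mem hg))
    -- `z` commutes with all conjugates of elements of `R` under `M`
    have hzall : ∀ m ∈ M, ∀ y ∈ R, z * (m * y * m⁻¹) = (m * y * m⁻¹) * z := by
      intro m hm y hy
      by_cases hmR : R.map (MulAut.conj m).toMonoidHom = R
      · exact (hzc _ (hmR ▸ ⟨y, hy, by simp⟩)).symm
      · exact hclass R hR hRM hRT m hm hmR z hz y hy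
    have hzs : z * (d * t * d⁻¹ * t⁻¹) = (d * t * d⁻¹ * t⁻¹) * z := by
      have c1 : Commute z r := (hzc r hr).symm
      have c2 : Commute z (t * r⁻¹ * t⁻¹) := hzall t htM _ (R.inv_mem hr)
      have c3 : Commute z (t * r * t⁻¹) := hzall t htM _ hr
      have c4 : Commute z (t * (t * r * t⁻¹) * t⁻¹) := by
        have := hzall (t * t) (M.mul_mem htM htM) r hr
        rwa [show t * t * r * (t * t)⁻¹ = t * (t * r * t⁻¹) * t⁻¹ by group] at this
      have c5 : Commute z (t * r⁻¹ * t⁻¹)⁻¹ := c2.inv_right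
      have e : d * t * d⁻¹ * t⁻¹ =
          (r * (t * r⁻¹ * t⁻¹)) * ((t * (t * r * t⁻¹) * t⁻¹) * (t * r⁻¹ * t⁻¹)) := by
        rw [hd']; group
      rw [e]
      exact (c1.mul_right c2).mul_right (c4.mul_right c2)
    have hzn : T.map (MulAut.conj z).toMonoidHom = T := by
      refine (hti _ (hinv z T hT) T hT).resolve_right fun hbot => hs1 ?_
      rw [← Subgroup.mem_bot, ← hbot]
      exact ⟨⟨_, hs, by simp only [MulEquiv.coe_toMonoidHom, MulAut.conj_apply]; rw [hzs, mul_inv_cancel_right]⟩, hs⟩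
    set z' := z * t * z⁻¹ * t⁻¹ with hz'
    have hz'T : z' ∈ T := T.mul_mem (hzn ▸ ⟨t, ht, by simp⟩) (T.inv_mem ht)
    have hz'1 : z' ≠ 1 := by
      intro h
      refine hz1 (hdisj z hz z hz ?_)
      calc z = (z * t * z⁻¹ * t⁻¹) * (t * z * t⁻¹) := by group
        _ = t * z * t⁻¹ := by rw [← hz', h, one_mul]
    have hRN : ∀ x ∈ R, T.map (MulAut.conj x).toMonoidHom = T := by
      intro x hx
      refine (hti _ (hinv x T hT) T hT).resolve_right fun hbot => hz'1 ?_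
      have c1 : Commute x z := hzc x hx
      have c2 : Commute x (t * z⁻¹ * t⁻¹) := hcR x hx _ (R.inv_mem hz)
      have e : z' = z * (t * z⁻¹ * t⁻¹) := by rw [hz']; group
      have hc : Commute x z' := e ▸ c1.mul_right c2
      rw [← Subgroup.mem_bot, ← hbot]
      exact ⟨⟨z', hz'T, by simp only [MulEquiv.coe_toMonoidHom, MulAut.conj_apply]; rw [hc.eq, mul_inv_cancel_right]⟩, hz'T⟩
    have hcomm := commute_of_ti_normalizes T R (fun g _ => hti _ (hinv g R hR) R hR) (hord T hT R hR).le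
      (inf_comm (a := T) (b := R) ▸ (hti R hR T hT).resolve_left hne)
      (fun x hx y hy => hRN x hx ▸ ⟨y, hy, by simp⟩)
    refine htn (Subgroup.eq_of_le_of_card_ge ?_ (Subgroup.card_map_of_injective (MulAut.conj t).injective).ge)
    rintro _ ⟨y, hy, rfl⟩
    simp only [MulEquiv.coe_toMonoidHom, MulAut.conj_apply]
    rw [hcomm t ht y hy, mul_inv_cancel_right]
    exact hy
  obtain ⟨r, hr, hr2⟩ := hexp R hR
  have hr' : t * t * r * (t * t)⁻¹ ∈ R := htsq ▸ ⟨r, hr, by simp only [MulEquiv.coe_toMonoidHom, MulAut.conj_apply]⟩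
  set r' := t * t * r * (t * t)⁻¹ with hr'def
  set b := t * r * t⁻¹ with hb
  have e1 : r * b⁻¹ = b * r'⁻¹ := by
    calc r * b⁻¹ = r * b⁻¹ * t * t⁻¹ := by group
      _ = t * (r * b⁻¹) * t⁻¹ := by rw [hexp' r hr]
      _ = b * r'⁻¹ := by rw [hb, hr'def]; group
  have cb' : b * r' = r' * b := (hcR r' hr' r hr).symm
  have h : r * r' = b * b := by
    calc r * r' = r * b⁻¹ * (b * r') := by group
      _ = b * r'⁻¹ * (r' * b) := by rw [e1, cb']
      _ = b * b := by group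
  have hbb : t * r ^ 2 * t⁻¹ = b * b := by rw [hb, pow_two]; group
  have h1 : r * r' = 1 := hdisj _ (R.mul_mem hr hr') (r ^ 2) (R.pow_mem hr 2) (by rw [h, hbb])
  apply hr2
  calc r ^ 2 = t⁻¹ * (t * r ^ 2 * t⁻¹) * t := by group
    _ = 1 := by rw [hbb, ← h, h1]; group

end CfsgLib.KSteps

namespace CfsgLib.KSteps

/-- `ti_family_commute` for a family inside a `2`-subgroup. -/
theorem ti_family_commute_in {G : Type*} [Group G] [Finite G] (P : Subgroup G) (hP : IsPGroup 2 ↥P)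
    (Δ : Set (Subgroup G)) (hle : ∀ R ∈ Δ, R ≤ P)
    (hinv : ∀ s ∈ P, ∀ R ∈ Δ, R.map (MulAut.conj s).toMonoidHom ∈ Δ)
    (hexp : ∀ R ∈ Δ, ∃ r ∈ R, r ^ 2 ≠ 1) (hord : ∀ R ∈ Δ, ∀ T ∈ Δ, Nat.card ↥R = Nat.card ↥T)
    (hti : ∀ R ∈ Δ, ∀ T ∈ Δ, R = T ∨ R ⊓ T = ⊥) :
    ∀ R ∈ Δ, ∀ T ∈ Δ, R ≠ T → ∀ r ∈ R, ∀ t ∈ T, r * t = t * r := by
  intro R hR T hT hne r hr t ht
  have hmap : ∀ R ∈ Δ, (R.subgroupOf P).map P.subtype = R := fun R hR => by
    rw [Subgroup.subgroupOf_map_subtype, inf_eq_left.mpr (hle R hR)]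
  have hinj : ∀ R ∈ Δ, ∀ T ∈ Δ, R.subgroupOf P = T.subgroupOf P → R = T := fun R hR T hT h => by
    rw [← hmap R hR, h, hmap T hT]
  refine congrArg Subtype.val (ti_family_commute hP ((fun R => R.subgroupOf P) '' Δ) ?_ ?_ ?_ ?_
    _ ⟨R, hR, rfl⟩ _ ⟨T, hT, rfl⟩ (fun h => hne (hinj R hR T hT h))
    ⟨r, hle R hR hr⟩ hr ⟨t, hle T hT ht⟩ ht)
  · rintro s _ ⟨U, hU, rfl⟩
    refine ⟨_, hinv s s.2 U hU, ?_⟩
    ext x
    constructor
    · rintro ⟨u, hu, hux⟩
      exact ⟨⟨u, hle U hU hu⟩, hu, Subtype.ext (by simpa [MulAut.conj_apply] using hux)⟩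
    · rintro ⟨u, hu, rfl⟩
      exact ⟨u, hu, by simp [MulAut.conj_apply]⟩
  · rintro _ ⟨U, hU, rfl⟩
    obtain ⟨u, hu, hu2⟩ := hexp U hU
    exact ⟨⟨u, hle U hU hu⟩, hu, fun h => hu2 (congrArg Subtype.val h)⟩
  · rintro _ ⟨U, hU, rfl⟩ _ ⟨V, hV, rfl⟩
    rw [Nat.card_congr (Subgroup.subgroupOfEquivOfLe (hle U hU)).toEquiv,
      Nat.card_congr (Subgroup.subgroupOfEquivOfLe (hle V hV)).toEquiv, hord U hU V hV]
  · rintro _ ⟨U, hU, rfl⟩ _ ⟨V, hV, rfl⟩
    rcases hti U hU V hV with h | h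
    · exact Or.inl (by rw [h])
    · refine Or.inr (eq_bot_iff.mpr fun x hx => Subgroup.mem_bot.mpr (Subtype.ext ?_))
      exact Subgroup.mem_bot.mp (h ▸ (show (x : G) ∈ U ⊓ V from ⟨hx.1, hx.2⟩))

/-- Squares in a finite `2`-group lie in the Frattini subgroup. -/
theorem sq_mem_frattini {Q : Type*} [Group Q] [Finite Q] (hQ : IsPGroup 2 Q) (x : Q) :
    x ^ 2 ∈ frattini Q := by
  have : Group.IsNilpotent Q := hQ.isNilpotent
  rw [frattini, Order.radical]
  simp only [Subgroup.mem_iInf]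
  intro M hM
  by_contra hx
  have hM' : IsCoatom M := hM
  have hn : M.Normal :=
    Subgroup.NormalizerCondition.normal_of_coatom M Group.normalizerCondition_of_isNilpotent hM'
  have htop : M ⊔ Subgroup.zpowers (x ^ 2) = ⊤ := hM'.2 _ (left_lt_sup.mpr fun h =>
    hx (h (Subgroup.mem_zpowers _)))
  have hxM : x ∈ (↑(M ⊔ Subgroup.zpowers (x ^ 2)) : Set Q) := by rw [htop]; exact Subgroup.mem_top x
  rw [Subgroup.normal_mul] at hxM
  obtain ⟨m, hm, _, ⟨n, rfl⟩, h⟩ := hxM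
  simp only at h
  have hodd : x ^ (1 - 2 * n) ∈ M := by
    have e : x ^ (1 - 2 * n) = m := by
      rw [zpow_sub, zpow_one, zpow_mul, zpow_two, ← pow_two]
      exact mul_inv_eq_of_eq_mul h.symm
    exact e ▸ hm
  obtain ⟨k, hk⟩ := hQ x
  have hcop : IsCoprime (1 - 2 * n) ((2 : ℤ) ^ k) :=
    (show IsCoprime (1 - 2 * n) (2 : ℤ) from ⟨1, n, by ring⟩).pow_right
  obtain ⟨a, b, hab⟩ := hcop
  have hxk : x ^ ((2 : ℤ) ^ k) = 1 := by exact_mod_cast hk
  have : x = (x ^ (1 - 2 * n)) ^ a := by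
    calc x = x ^ (a * (1 - 2 * n) + b * (2 : ℤ) ^ k) := by rw [hab, zpow_one]
      _ = (x ^ (1 - 2 * n)) ^ a := by
        rw [zpow_add, mul_comm b, zpow_mul x ((2:ℤ)^k) b, hxk, one_zpow, mul_one, mul_comm a, zpow_mul]
  refine hx (M.pow_mem ?_ 2)
  rw [this]
  exact M.zpow_mem hodd a

end CfsgLib.KSteps
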