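import Cfsg.Agent.Lib.KSteps.Basic
import Mathlib.GroupTheory.Nilpotent
import Mathlib.GroupTheory.NoncommCoprod
import Mathlib.Tactic.Group

/-!
A TI subgroup `V` which is maximal among the abelian normal subgroups of its normalizer, with a
second conjugate `B` inside the radical `Q` of that normalizer: basic commutator structure of
`Q ⊓ C(V)`.
-/

set_option autoImplicit false

namespace CfsgLib.KSteps.TIRadical

variable {G : Type*} [Group G]

/-- The conjugate `x H x⁻¹`. -/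
abbrev cj (x : G) (H : Subgroup G) : Subgroup G := H.map (MulAut.conj x).toMonoidHom

theorem mem_cj {x y : G} {H : Subgroup G} : y ∈ cj x H ↔ x⁻¹ * y * x ∈ H := by
  constructor
  · rintro ⟨h, hh, rfl⟩
    simpa [MulAut.conj_apply, mul_assoc] using hh
  · intro h
    exact ⟨_, h, by simp [MulAut.conj_apply, mul_assoc]⟩

theorem conj_mem_cj {x y : G} {H : Subgroup G} (h : y ∈ H) : x * y * x⁻¹ ∈ cj x H :=
  mem_cj.mpr (by simpa [mul_assoc] using h)

theorem cj_cj (x y : G) (H : Subgroup G) : cj x (cj y H) = cj (x * y) H := by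
  ext z
  rw [mem_cj, mem_cj, mem_cj, mul_inv_rev]
  simp [mul_assoc]

theorem cj_one (H : Subgroup G) : cj 1 H = H := by
  ext z
  rw [mem_cj]
  simp

theorem cj_inv_cj (x : G) (H : Subgroup G) : cj x⁻¹ (cj x H) = H := by
  rw [cj_cj, inv_mul_cancel, cj_one]

theorem card_cj (x : G) (H : Subgroup G) : Nat.card ↥(cj x H) = Nat.card ↥H :=
  Subgroup.card_map_of_injective (MulAut.conj x).injective

theorem mem_normalizer_iff_cj {x : G} {H : Subgroup G} :
    x ∈ Subgroup.normalizer (H : Set G) ↔ cj x H = H := by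
  rw [Subgroup.mem_normalizer_iff]
  constructor
  · intro h
    ext y
    rw [mem_cj, h (x⁻¹ * y * x)]
    simp [mul_assoc]
  · intro h y
    have : y ∈ H ↔ x * y * x⁻¹ ∈ cj x H := by
      rw [mem_cj]
      simp [mul_assoc]
    rwa [h] at this

theorem mem_normalizer_cj {x m : G} {H : Subgroup G} :
    m ∈ Subgroup.normalizer (cj x H : Set G) ↔ x⁻¹ * m * x ∈ Subgroup.normalizer (H : Set G) := by
  rw [mem_normalizer_iff_cj, mem_normalizer_iff_cj, cj_cj]
  constructor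
  · intro h
    rw [mul_assoc, ← cj_cj, h, cj_inv_cj]
  · intro h
    rw [show m * x = x * (x⁻¹ * m * x) by group, ← cj_cj, h]

/-- An element of a finite group normalizes a subgroup which it centralizes. -/
theorem mem_normalizer_of_commute {x : G} {H : Subgroup G} (h : ∀ y ∈ H, Commute x y) :
    x ∈ Subgroup.normalizer (H : Set G) := by
  rw [mem_normalizer_iff_cj]
  ext y
  rw [mem_cj]
  constructor
  · intro hy
    have := (h _ hy).eq
    simp only [← mul_assoc, mul_inv_cancel, one_mul] at this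
    have e : x⁻¹ * y * x = y := by
      apply mul_right_cancel (b := x)
      exact this.symm
    rwa [e] at hy
  · intro hy
    rwa [mul_assoc, ← (h y hy).eq, inv_mul_cancel_left]

theorem exists_mul_of_mem_sup {H K : Subgroup G} (hc : ∀ h ∈ H, ∀ k ∈ K, Commute h k) {w : G}
    (hw : w ∈ H ⊔ K) : ∃ h ∈ H, ∃ k ∈ K, w = h * k := by
  have := MonoidHom.noncommCoprod_range H.subtype K.subtype
    (fun h k => hc h h.2 k k.2)
  rw [Subgroup.range_subtype, Subgroup.range_subtype] at this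
  rw [← this] at hw
  obtain ⟨⟨h, k⟩, rfl⟩ := hw
  exact ⟨h, h.2, k, k.2, rfl⟩

theorem exists_ne_one {H : Subgroup G} (h : H ≠ ⊥) : ∃ x ∈ H, x ≠ 1 := by
  by_contra hc
  push Not at hc
  exact h ((Subgroup.eq_bot_iff_forall _).mpr hc)

open scoped commutatorElement

/-- `Q ⊓ C(V)`. -/
abbrev pc (V Q : Subgroup G) : Subgroup G := Q ⊓ Subgroup.centralizer (V : Set G)

/-- The hypotheses on `V` and the radical `Q` of its normalizer. -/
structure Good (V Q : Subgroup G) : Prop where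
  sq : ∀ v ∈ V, v * v = 1
  two : IsPGroup 2 ↥Q
  le_normalizer : Q ≤ Subgroup.normalizer (V : Set G)
  normal : ∀ m ∈ Subgroup.normalizer (V : Set G), ∀ q ∈ Q, m * q * m⁻¹ ∈ Q
  le : V ≤ Q
  cent : ∀ c ∈ Subgroup.normalizer (V : Set G), (∀ q ∈ Q, Commute c q) → c ∈ Q
  max_two : ∀ K ≤ Subgroup.normalizer (V : Set G), IsPGroup 2 ↥K →
    (∀ m ∈ Subgroup.normalizer (V : Set G), ∀ k ∈ K, m * k * m⁻¹ ∈ K) → K ≤ Q
  max_ab : ∀ A : Subgroup G, V ≤ A → A ≤ Q → (∀ a ∈ A, ∀ b ∈ A, Commute a b) →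
    (∀ m ∈ Subgroup.normalizer (V : Set G), ∀ a ∈ A, m * a * m⁻¹ ∈ A) → A = V
  ti : ∀ x : G, cj x V = V ∨ cj x V ⊓ V = ⊥
  ne_bot : V ≠ ⊥

namespace Good

variable {V Q : Subgroup G}

theorem inv_eq (h : Good V Q) {v : G} (hv : v ∈ V) : v⁻¹ = v :=
  inv_eq_of_mul_eq_one_right (h.sq v hv)

theorem comm (h : Good V Q) {u v : G} (hu : u ∈ V) (hv : v ∈ V) : Commute u v := by
  have := h.inv_eq (V.mul_mem hu hv)
  rw [mul_inv_rev, h.inv_eq hu, h.inv_eq hv] at this
  exact this.symm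

theorem conj (h : Good V Q) (x : G) : Good (cj x V) (cj x Q) where
  sq := by
    rintro _ ⟨v, hv, rfl⟩
    rw [← map_mul, h.sq v hv, map_one]
  two := h.two.map _
  le_normalizer := fun q hq => mem_normalizer_cj.mpr (h.le_normalizer (mem_cj.mp hq))
  normal := fun m hm q hq => by
    rw [mem_cj]
    have := h.normal _ (mem_normalizer_cj.mp hm) _ (mem_cj.mp hq)
    simpa [mul_assoc] using this
  le := Subgroup.map_mono h.le
  cent := fun c hc hcomm => by
    refine mem_cj.mpr (h.cent _ (mem_normalizer_cj.mp hc) fun q hq => ?_)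
    have := (hcomm _ (conj_mem_cj (x := x) hq)).eq
    show x⁻¹ * c * x * q = q * (x⁻¹ * c * x)
    calc x⁻¹ * c * x * q = x⁻¹ * (c * (x * q * x⁻¹)) * x := by group
      _ = x⁻¹ * ((x * q * x⁻¹) * c) * x := by rw [this]
      _ = q * (x⁻¹ * c * x) := by group
  max_two := fun K hK h2 hn k hk => by
    have hle : cj x⁻¹ K ≤ Q := by
      refine h.max_two _ (fun y hy => ?_) (h2.map _) fun m hm y hy => ?_
      · have := mem_normalizer_cj.mp (hK (mem_cj.mp hy))
        simpa [mul_assoc] using this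
      · rw [mem_cj] at hy ⊢
        have hm' : x * m * x⁻¹ ∈ Subgroup.normalizer (cj x V : Set G) :=
          mem_normalizer_cj.mpr (by simpa [mul_assoc] using hm)
        have := hn _ hm' _ hy
        simpa [mul_assoc] using this
    exact mem_cj.mpr (hle (mem_cj.mpr (by simpa [mul_assoc] using hk)))
  max_ab := fun A hVA hAQ hab hn => by
    have hA : cj x⁻¹ A = V := by
      refine h.max_ab _ (fun v hv => ?_) (fun y hy => ?_) ?_ fun m hm y hy => ?_
      · exact mem_cj.mpr (by simpa [mul_assoc] using hVA (conj_mem_cj (x := x) hv))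
      · have := mem_cj.mp (hAQ (mem_cj.mp hy))
        simpa [mul_assoc] using this
      · rintro _ ⟨a, ha, rfl⟩ _ ⟨b, hb, rfl⟩
        exact (hab a ha b hb).map _
      · rw [mem_cj] at hy ⊢
        have hm' : x * m * x⁻¹ ∈ Subgroup.normalizer (cj x V : Set G) :=
          mem_normalizer_cj.mpr (by simpa [mul_assoc] using hm)
        have := hn _ hm' _ hy
        simpa [mul_assoc] using this
    rw [← hA, cj_cj, mul_inv_cancel, cj_one]
  ti := fun y => by
    rcases h.ti (x⁻¹ * y * x) with e | e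
    · left
      rw [cj_cj, show y * x = x * (x⁻¹ * y * x) by group, ← cj_cj, e]
    · right
      rw [cj_cj, show y * x = x * (x⁻¹ * y * x) by group, ← cj_cj,
        ← Subgroup.map_inf _ _ _ (MulAut.conj x).injective, e, Subgroup.map_bot]
  ne_bot := fun e => h.ne_bot (by rw [← cj_inv_cj x V, e]; exact Subgroup.map_bot _)

/-- Two conjugates of `V` sharing a nontrivial element are equal. -/
theorem eq_of_mem (h : Good V Q) {x y w : G} (hx : w ∈ cj x V) (hy : w ∈ cj y V) (hw : w ≠ 1) :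
    cj x V = cj y V := by
  rcases h.ti (y⁻¹ * x) with e | e
  · rw [← cj_cj] at e
    rw [← cj_inv_cj y⁻¹ (cj x V), inv_inv, e]
  · exfalso
    have hm : y⁻¹ * w * y ∈ cj (y⁻¹ * x) V ⊓ V := by
      refine ⟨?_, mem_cj.mp hy⟩
      rw [← cj_cj]
      simpa using conj_mem_cj (x := y⁻¹) hx
    rw [e, Subgroup.mem_bot] at hm
    exact hw (by
      calc w = y * (y⁻¹ * w * y) * y⁻¹ := by group
        _ = 1 := by rw [hm]; group)

/-- Two conjugates of `V` which are equal have the same radical. -/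
theorem radical_eq (h : Good V Q) {x y : G} (e : cj x V = cj y V) : cj x Q = cj y Q := by
  have hn : y⁻¹ * x ∈ Subgroup.normalizer (V : Set G) := by
    rw [mem_normalizer_iff_cj, ← cj_cj, e, cj_inv_cj]
  have hQ : cj (y⁻¹ * x) Q = Q := by
    rw [← mem_normalizer_iff_cj, Subgroup.mem_normalizer_iff]
    intro q
    refine ⟨h.normal _ hn q, fun hq => ?_⟩
    have := h.normal _ (inv_mem hn) _ hq
    simpa [mul_assoc] using this
  rw [← cj_cj] at hQ
  rw [← cj_inv_cj y⁻¹ (cj x Q), inv_inv, hQ]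

theorem mem_pc (_h : Good V Q) {p : G} : p ∈ pc V Q ↔ p ∈ Q ∧ ∀ v ∈ V, Commute v p :=
  Iff.rfl

theorem le_pc (h : Good V Q) : V ≤ pc V Q := fun _ hv => ⟨h.le hv, fun _ hu => h.comm hu hv⟩

theorem pc_normal (h : Good V Q) {m p : G} (hm : m ∈ Subgroup.normalizer (V : Set G))
    (hp : p ∈ pc V Q) : m * p * m⁻¹ ∈ pc V Q := by
  refine h.mem_pc.mpr ⟨h.normal m hm p hp.1, fun v hv => ?_⟩
  have hv' : m⁻¹ * v * m ∈ V := by
    have := (Subgroup.mem_normalizer_iff.mp (inv_mem hm) v).mp hv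
    simpa using this
  show v * (m * p * m⁻¹) = m * p * m⁻¹ * v
  calc v * (m * p * m⁻¹) = m * ((m⁻¹ * v * m) * p) * m⁻¹ := by group
    _ = m * (p * (m⁻¹ * v * m)) * m⁻¹ := by rw [((h.mem_pc.mp hp).2 _ hv').eq]
    _ = m * p * m⁻¹ * v := by group

theorem commute_pc (h : Good V Q) {v p : G} (hv : v ∈ V) (hp : p ∈ pc V Q) : Commute v p :=
  (h.mem_pc.mp hp).2 v hv

theorem center_pc (h : Good V Q) {z : G} (hz : z ∈ pc V Q)
    (hc : ∀ p ∈ pc V Q, Commute z p) : z ∈ V := by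
  have hA := h.max_ab (pc V Q ⊓ Subgroup.centralizer (pc V Q : Set G))
    (fun v hv => ⟨h.le_pc hv, fun p hp => (h.commute_pc hv hp).symm⟩)
    (fun a ha => ha.1.1) (fun a ha b hb => hb.2 a ha.1) fun m hm a ha => by
      refine ⟨h.pc_normal hm ha.1, fun p hp => ?_⟩
      have hp' := h.pc_normal (inv_mem hm) hp
      rw [inv_inv] at hp'
      show p * (m * a * m⁻¹) = m * a * m⁻¹ * p
      calc p * (m * a * m⁻¹) = m * ((m⁻¹ * p * m) * a) * m⁻¹ := by group
        _ = m * (a * (m⁻¹ * p * m)) * m⁻¹ := by rw [ha.2 _ hp']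
        _ = m * a * m⁻¹ * p := by group
  rw [← hA]
  exact ⟨hz, fun p hp => (hc p hp).symm⟩

/-- `Q ⊓ C(V)` has commutators in `V`. -/
theorem comm_mem [Finite G] (h : Good V Q) {x y : G} (hx : x ∈ pc V Q) (hy : y ∈ pc V Q) :
    ⁅x, y⁆ ∈ V := by
  set P := pc V Q
  have : Fact (Nat.Prime 2) := ⟨Nat.prime_two⟩
  have hnil : Group.IsNilpotent ↥P := (h.two.to_le inf_le_left).isNilpotent
  obtain ⟨n, hn⟩ := (Subgroup.isNilpotent_iff_lowerCentralSeries P).mp hnil
  have hleP : ∀ i, P.lowerCentralSeries i ≤ P := by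
    intro i
    induction i with
    | zero => exact le_rfl
    | succ i ih =>
      rw [Subgroup.lowerCentralSeries_succ]
      exact Subgroup.commutator_le.mpr fun a ha b hb =>
        P.mul_mem (P.mul_mem (P.mul_mem (ih ha) hb) (P.inv_mem (ih ha))) (P.inv_mem hb)
  have hD : ∀ i, P.lowerCentralSeries (i + 1) ≤ ⁅P, P⁆ := fun i => by
    rw [Subgroup.lowerCentralSeries_succ]
    exact Subgroup.commutator_mono (hleP i) le_rfl
  -- the subgroup of elements whose commutators with `P` lie in `V`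
  have hcase : ∀ z ∈ ⁅P, P⁆, z ∈ P → (∀ p ∈ P, ⁅z, p⁆ ∈ V) → z ∈ V := by
    intro z hzD hzP hz
    -- such elements commute with `⁅P, P⁆`
    have hkill : ∀ w ∈ P, (∀ p ∈ P, ⁅w, p⁆ ∈ V) → ∀ d ∈ ⁅P, P⁆, ⁅w, d⁆ = 1 := by
      intro w hw hwV d hd
      let f : ↥P →* G :=
        { toFun := fun p => ⁅w, (p : G)⁆
          map_one' := by simp
          map_mul' := fun p q => by
            rw [Subgroup.coe_mul]
            have hc := (h.commute_pc (hwV q q.2) p.2).eq
            calc ⁅w, (p : G) * q⁆ = ⁅w, (p : G)⁆ * ((p : G) * ⁅w, (q : G)⁆) * (p : G)⁻¹ := by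
                  simp only [commutatorElement_def]; group
              _ = ⁅w, (p : G)⁆ * ⁅w, (q : G)⁆ := by rw [← hc]; group }
      have hle : ⁅P, P⁆ ≤ f.ker.map P.subtype := by
        rw [Subgroup.commutator_le]
        intro a ha b hb
        refine ⟨⁅(⟨a, ha⟩ : ↥P), ⟨b, hb⟩⁆, ?_, map_commutatorElement P.subtype _ _⟩
        rw [SetLike.mem_coe, MonoidHom.mem_ker, map_commutatorElement,
          commutatorElement_eq_one_iff_commute]
        exact h.comm (hwV a ha) (hwV b hb)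
      obtain ⟨p, hp, rfl⟩ := hle hd
      exact hp
    let Z2 : Subgroup G :=
      { carrier := {w | w ∈ P ∧ ∀ p ∈ P, ⁅w, p⁆ ∈ V}
        one_mem' := ⟨P.one_mem, fun p _ => by simp [V.one_mem]⟩
        mul_mem' := by
          rintro a b ⟨ha, ha'⟩ ⟨hb, hb'⟩
          refine ⟨P.mul_mem ha hb, fun p hp => ?_⟩
          have hc := (h.commute_pc (hb' p hp) ha).eq
          have e : ⁅a * b, p⁆ = ⁅b, p⁆ * ⁅a, p⁆ := by
            calc ⁅a * b, p⁆ = a * ⁅b, p⁆ * a⁻¹ * ⁅a, p⁆ := by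
                  simp only [commutatorElement_def]; group
              _ = ⁅b, p⁆ * ⁅a, p⁆ := by rw [← hc]; group
          rw [e]
          exact V.mul_mem (hb' p hp) (ha' p hp)
        inv_mem' := by
          rintro a ⟨ha, ha'⟩
          refine ⟨P.inv_mem ha, fun p hp => ?_⟩
          have hc := (h.commute_pc (V.inv_mem (ha' p hp)) (P.inv_mem ha)).eq
          have e : ⁅a⁻¹, p⁆ = ⁅a, p⁆⁻¹ := by
            calc ⁅a⁻¹, p⁆ = a⁻¹ * ⁅a, p⁆⁻¹ * a := by
                  simp only [commutatorElement_def]; group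
              _ = ⁅a, p⁆⁻¹ := by rw [← hc]; group
          rw [e]
          exact V.inv_mem (ha' p hp) }
    have hA := h.max_ab (V ⊔ (Z2 ⊓ ⁅P, P⁆)) le_sup_left
      (sup_le h.le fun w hw => hw.1.1.1) ?_ ?_
    · rw [← hA]
      exact Subgroup.mem_sup_right ⟨⟨hzP, hz⟩, hzD⟩
    · -- abelian
      have hcomm : ∀ v ∈ V, ∀ w ∈ Z2 ⊓ ⁅P, P⁆, Commute v w :=
        fun v hv w hw => h.commute_pc hv hw.1.1
      intro a ha b hb
      obtain ⟨v, hv, w, hw, rfl⟩ := exists_mul_of_mem_sup hcomm ha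
      obtain ⟨v', hv', w', hw', rfl⟩ := exists_mul_of_mem_sup hcomm hb
      have h1 : Commute w w' :=
        commutatorElement_eq_one_iff_commute.mp (hkill w hw.1.1 hw.1.2 w' hw'.2)
      exact ((h.comm hv hv').mul_left (hcomm v' hv' w hw).symm).mul_right
        ((hcomm v hv w' hw').mul_left h1)
    · -- normal
      intro m hm a ha
      have hcomm : ∀ v ∈ V, ∀ w ∈ Z2 ⊓ ⁅P, P⁆, Commute v w :=
        fun v hv w hw => h.commute_pc hv hw.1.1
      obtain ⟨v, hv, w, hw, rfl⟩ := exists_mul_of_mem_sup hcomm ha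
      rw [show m * (v * w) * m⁻¹ = (m * v * m⁻¹) * (m * w * m⁻¹) by group]
      refine Subgroup.mul_mem_sup ((Subgroup.mem_normalizer_iff.mp hm v).mp hv) ⟨⟨?_, ?_⟩, ?_⟩
      · exact h.pc_normal hm hw.1.1
      · intro p hp
        have hp' := h.pc_normal (inv_mem hm) hp
        rw [inv_inv] at hp'
        have := (Subgroup.mem_normalizer_iff.mp hm _).mp (hw.1.2 _ hp')
        have e : m * ⁅w, m⁻¹ * p * m⁆ * m⁻¹ = ⁅m * w * m⁻¹, p⁆ := by
          simp only [commutatorElement_def]; group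
        rwa [e] at this
      · have hmap : ⁅P, P⁆.map (MulAut.conj m).toMonoidHom ≤ ⁅P, P⁆ := by
          rw [Subgroup.map_commutator]
          refine Subgroup.commutator_mono ?_ ?_ <;>
            · rintro _ ⟨p, hp, rfl⟩
              exact h.pc_normal hm hp
        exact hmap (conj_mem_cj hw.2)
  have hdown : ∀ k i, i + k + 1 = n + 1 → P.lowerCentralSeries (i + 1) ≤ V := by
    intro k
    induction k with
    | zero =>
      intro i hi
      obtain rfl : i = n := by omega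
      rw [Subgroup.lowerCentralSeries_succ, hn]
      simp
    | succ k ih =>
      intro i hi z hz
      refine hcase z (hD i hz) (hleP _ hz) fun p hp => ?_
      refine ih (i + 1) (by omega) ?_
      rw [Subgroup.lowerCentralSeries_succ]
      exact Subgroup.commutator_mem_commutator hz hp
  have := hdown n 0 (by omega)
  rw [Subgroup.lowerCentralSeries_succ, Subgroup.lowerCentralSeries_zero] at this
  exact this (Subgroup.commutator_mem_commutator hx hy)

theorem comm_mul_left [Finite G] (h : Good V Q) {x y z : G} (hx : x ∈ pc V Q) (hy : y ∈ pc V Q)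
    (hz : z ∈ pc V Q) : ⁅x * y, z⁆ = ⁅x, z⁆ * ⁅y, z⁆ := by
  have hc := (h.commute_pc (h.comm_mem hy hz) hx).eq
  calc ⁅x * y, z⁆ = x * ⁅y, z⁆ * x⁻¹ * ⁅x, z⁆ := by simp only [commutatorElement_def]; group
    _ = ⁅y, z⁆ * ⁅x, z⁆ := by rw [← hc]; group
    _ = ⁅x, z⁆ * ⁅y, z⁆ := (h.comm (h.comm_mem hy hz) (h.comm_mem hx hz)).eq

theorem comm_mul_right [Finite G] (h : Good V Q) {x y z : G} (hx : x ∈ pc V Q) (hy : y ∈ pc V Q)
    (hz : z ∈ pc V Q) : ⁅x, y * z⁆ = ⁅x, y⁆ * ⁅x, z⁆ := by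
  have hc := (h.commute_pc (h.comm_mem hx hz) hy).eq
  calc ⁅x, y * z⁆ = ⁅x, y⁆ * (y * ⁅x, z⁆ * y⁻¹) := by simp only [commutatorElement_def]; group
    _ = ⁅x, y⁆ * ⁅x, z⁆ := by rw [← hc]; group

theorem comm_symm [Finite G] (h : Good V Q) {x y : G} (hx : x ∈ pc V Q) (hy : y ∈ pc V Q) :
    ⁅x, y⁆ = ⁅y, x⁆ := by
  rw [← h.inv_eq (h.comm_mem hx hy), commutatorElement_inv]

theorem sq_mem [Finite G] (h : Good V Q) {x : G} (hx : x ∈ pc V Q) : x * x ∈ V :=
  h.center_pc (mul_mem hx hx) fun p hp => commutatorElement_eq_one_iff_commute.mp (by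
    rw [h.comm_mul_left hx hx hp, h.sq _ (h.comm_mem hx hp)])

/-- An element of `N(V)` centralizing `Q ⊓ C(V)` lies in `V`. -/
theorem cent_pc [Finite G] (h : Good V Q) {c : G} (hc : c ∈ Subgroup.normalizer (V : Set G))
    (hcp : ∀ p ∈ pc V Q, Commute c p) : c ∈ V := by
  set N := Subgroup.normalizer (V : Set G)
  let K : Subgroup G := N ⊓ Subgroup.centralizer (pc V Q : Set G)
  have hKn : ∀ m ∈ N, ∀ k ∈ K, m * k * m⁻¹ ∈ K := by
    intro m hm k hk
    refine ⟨N.mul_mem (N.mul_mem hm hk.1) (N.inv_mem hm), fun p hp => ?_⟩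
    have hp' := h.pc_normal (inv_mem hm) hp
    rw [inv_inv] at hp'
    show p * (m * k * m⁻¹) = m * k * m⁻¹ * p
    calc p * (m * k * m⁻¹) = m * ((m⁻¹ * p * m) * k) * m⁻¹ := by group
      _ = m * (k * (m⁻¹ * p * m)) * m⁻¹ := by rw [hk.2 _ hp']
      _ = m * k * m⁻¹ * p := by group
  have hKQ : ∀ k ∈ K, k ∈ Q → k ∈ V := by
    intro k hk hkQ
    have hkP : k ∈ pc V Q := ⟨hkQ, fun v hv => hk.2 v (h.le_pc hv)⟩
    exact h.center_pc hkP fun p hp => (hk.2 p hp).symm
  have hK2 : IsPGroup 2 ↥K := by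
    intro y
    obtain ⟨k, m, hm, hkm⟩ := Nat.exists_eq_two_pow_mul_odd (orderOf_pos (y : G)).ne'
    refine ⟨k, Subtype.ext ?_⟩
    rw [Subgroup.coe_pow, Subgroup.coe_one]
    set z := (y : G) ^ 2 ^ k
    have hz : z ∈ K := K.pow_mem y.2 _
    have hzm : z ^ m = 1 := by rw [← pow_mul, ← hkm, pow_orderOf_eq_one]
    have hzodd : ∀ v ∈ V, v ^ m = v := by
      obtain ⟨j, rfl⟩ := hm
      intro v hv
      rw [pow_succ, pow_mul, pow_two, h.sq v hv, one_pow, one_mul]
    have hzQ : ∀ q ∈ Q, Commute z q := by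
      intro q hq
      have h1 : z * q * z⁻¹ * q⁻¹ ∈ V := by
        refine hKQ _ ?_ (Q.mul_mem (h.normal z hz.1 q hq) (Q.inv_mem hq))
        have h2 := K.mul_mem hz (hKn q (h.le_normalizer hq) z⁻¹ (K.inv_mem hz))
        simpa [mul_assoc] using h2
      set v := z * q * z⁻¹ * q⁻¹ with hv
      have hzv : z * v = v * z := (hz.2 v (h.le_pc h1)).symm
      have hiter : ∀ j, z ^ j * q * (z ^ j)⁻¹ = v ^ j * q := by
        intro j
        induction j with
        | zero => simp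
        | succ j ih =>
          have e : z * v ^ j = v ^ j * z := (Commute.pow_right hzv j).eq
          calc z ^ (j + 1) * q * (z ^ (j + 1))⁻¹ = z * (z ^ j * q * (z ^ j)⁻¹) * z⁻¹ := by
                rw [pow_succ']; group
            _ = z * v ^ j * q * z⁻¹ := by rw [ih]; group
            _ = v ^ j * (z * q * z⁻¹) := by rw [e]; group
            _ = v ^ j * (v * q) := by rw [hv]; group
            _ = v ^ (j + 1) * q := by rw [pow_succ]; group
      have h3 := hiter m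
      rw [hzm, hzodd v h1] at h3
      have hv1 : v = 1 := by
        simpa using h3.symm
      rw [hv] at hv1
      exact mul_inv_eq_iff_eq_mul.mp (mul_inv_eq_one.mp hv1)
    have hzV : z ∈ V := hKQ z hz (h.cent z hz.1 hzQ)
    rw [← hzodd z hzV, hzm]
  exact hKQ c ⟨hc, fun p hp => (hcp p hp).symm⟩
    (h.max_two K inf_le_left hK2 hKn ⟨hc, fun p hp => (hcp p hp).symm⟩)

/-- A conjugate of `V` inside `Q`, other than `V`, centralizes `V`. -/
theorem conj_le_pc [Finite G] (h : Good V Q) {x : G} (hne : cj x V ≠ V) (hle : cj x V ≤ Q) :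
    cj x V ≤ pc V Q := by
  intro b hb
  refine h.mem_pc.mpr ⟨hle hb, fun v hv => ?_⟩
  refine commute_of_ti_normalizes V (cj x V) (fun a _ => ?_) (card_cj x V).ge ?_ ?_ v hv b hb
  · exact (h.conj x).ti a
  · rw [inf_comm]
    exact (h.ti x).resolve_left hne
  · exact fun b hb v hv => (Subgroup.mem_normalizer_iff.mp (h.le_normalizer (hle hb)) v).mp hv

theorem conj_inter (h : Good V Q) {x u : G} (hne : cj x V ≠ V) (hu : u ∈ cj x V) (hu' : u ∈ V) :
    u = 1 := by
  rw [← Subgroup.mem_bot, ← (h.ti x).resolve_left hne]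
  exact ⟨hu, hu'⟩

/-- If an element of `Q ⊓ C(V)` centralizes a nontrivial element of a conjugate of `V` in `Q`,
it centralizes that conjugate. -/
theorem cent_of_commute [Finite G] (h : Good V Q) {x p u : G} (hne : cj x V ≠ V)
    (hle : cj x V ≤ Q) (hp : p ∈ pc V Q) (hu : u ∈ cj x V) (hu1 : u ≠ 1) (hpu : ⁅p, u⁆ = 1) :
    ∀ w ∈ cj x V, ⁅p, w⁆ = 1 := by
  intro w hw
  have e : p * u * p⁻¹ = u := by
    rw [(commutatorElement_eq_one_iff_commute.mp hpu).eq, mul_inv_cancel_right]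
  have hN : cj (p * x) V = cj x V :=
    h.eq_of_mem (by rw [← cj_cj, ← e]; exact conj_mem_cj hu) hu hu1
  refine h.conj_inter hne ?_ (h.comm_mem hp (h.conj_le_pc hne hle hw))
  refine (cj x V).mul_mem ?_ ((cj x V).inv_mem hw)
  rw [← hN, ← cj_cj]
  exact conj_mem_cj hw

theorem eq_one_of_comm (h : Good V Q) {x b v : G} (hne : cj x V ≠ V) (hb : b ∈ cj x V)
    (hv : v ∈ V) (e : v * b = 1) : v = 1 ∧ b = 1 := by
  have hb' : b = v⁻¹ := eq_inv_of_mul_eq_one_right e
  have hb1 : b = 1 := h.conj_inter hne hb (hb' ▸ V.inv_mem hv)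
  exact ⟨by rwa [hb1, mul_one] at e, hb1⟩

theorem mul_injective (h : Good V Q) {x b b' v v' : G} (hne : cj x V ≠ V) (hb : b ∈ cj x V)
    (hb' : b' ∈ cj x V) (hv : v ∈ V) (hv' : v' ∈ V) (e : v * b = v' * b') :
    v = v' ∧ b = b' := by
  have e' : v'⁻¹ * v * (b * b'⁻¹) = 1 := by
    calc v'⁻¹ * v * (b * b'⁻¹) = v'⁻¹ * (v * b) * b'⁻¹ := by group
      _ = 1 := by rw [e]; group
  obtain ⟨h1, h2⟩ := h.eq_one_of_comm hne ((cj x V).mul_mem hb ((cj x V).inv_mem hb'))
    (V.mul_mem (V.inv_mem hv') hv) e'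
  exact ⟨(inv_mul_eq_one.mp h1).symm, mul_inv_eq_one.mp h2⟩

/-- If `p` centralizes no nontrivial element of the conjugate `U`, every element of `V` is a
commutator of `p` with an element of `U`. -/
theorem exists_comm_eq [Finite G] (h : Good V Q) {x p : G} (hne : cj x V ≠ V)
    (hle : cj x V ≤ Q) (hp : p ∈ pc V Q) {u : G} (hu : u ∈ cj x V) (hpu : ⁅p, u⁆ ≠ 1) :
    ∀ v ∈ V, ∃ w ∈ cj x V, ⁅p, w⁆ = v := by
  have hU := h.conj_le_pc hne hle
  let f : ↥(cj x V) →* ↥V :=
    { toFun := fun w => ⟨⁅p, (w : G)⁆, h.comm_mem hp (hU w.2)⟩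
      map_one' := Subtype.ext (by simp)
      map_mul' := fun a b => Subtype.ext (h.comm_mul_right hp (hU a.2) (hU b.2)) }
  have hinj : Function.Injective f := by
    rw [injective_iff_map_eq_one]
    intro w hw
    by_contra hw1
    exact hpu (h.cent_of_commute hne hle hp w.2 (fun e => hw1 (Subtype.ext e))
      (congrArg Subtype.val hw) u hu)
  intro v hv
  obtain ⟨w, hw⟩ := (hinj.bijective_of_nat_card_le (card_cj x V).ge).2 ⟨v, hv⟩
  exact ⟨w, w.2, congrArg Subtype.val hw⟩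

/-- There is a conjugate of `cj g V` inside `Q` not commuting with it. -/
theorem exists_tri [Finite G] (h : Good V Q) {g : G} (hne : cj g V ≠ V) (hle : cj g V ≤ Q) :
    ∃ x, cj x V ≠ V ∧ cj x V ≤ Q ∧
      ∀ a ∈ cj x V, a ≠ 1 → ∀ b ∈ cj g V, b ≠ 1 → ⁅a, b⁆ ≠ 1 := by
  set N := Subgroup.normalizer (V : Set G)
  have hx : ∀ m ∈ N, cj (m * g) V ≠ V ∧ cj (m * g) V ≤ Q := by
    intro m hm
    constructor
    · intro e
      refine hne ?_
      rw [← cj_inv_cj m (cj g V), cj_cj m g, e]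
      exact mem_normalizer_iff_cj.mp (inv_mem hm)
    · rw [← cj_cj]
      rintro _ ⟨b, hb, rfl⟩
      exact h.normal m hm b (hle hb)
  by_cases hc : ∀ m ∈ N, ∀ a ∈ cj (m * g) V, ∀ b ∈ cj g V, Commute a b
  · exfalso
    let s : Set G := (V : Set G) ∪ {y | ∃ m ∈ N, y ∈ cj (m * g) V}
    have hs : s ⊆ (pc V Q : Subgroup G) := by
      rintro y (hy | ⟨m, hm, hy⟩)
      · exact h.le_pc hy
      · exact h.conj_le_pc (hx m hm).1 (hx m hm).2 hy
    have hcomm : ∀ y ∈ s, ∀ z ∈ s, y * z = z * y := by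
      rintro y (hy | ⟨m, hm, hy⟩) z hz
      · exact h.commute_pc hy (hs hz)
      rcases hz with hz | ⟨n, hn, hz⟩
      · exact (h.commute_pc hz (h.conj_le_pc (hx m hm).1 (hx m hm).2 hy)).symm
      have h1 : n⁻¹ * y * n ∈ cj (n⁻¹ * m * g) V := by
        rw [mul_assoc n⁻¹, ← cj_cj]
        simpa using conj_mem_cj (x := n⁻¹) hy
      have h2 : n⁻¹ * z * n ∈ cj g V := by
        rw [← cj_cj] at hz
        exact mem_cj.mp hz
      have := (hc _ (N.mul_mem (N.inv_mem hn) hm) _ h1 _ h2).eq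
      calc y * z = n * ((n⁻¹ * y * n) * (n⁻¹ * z * n)) * n⁻¹ := by group
        _ = n * ((n⁻¹ * z * n) * (n⁻¹ * y * n)) * n⁻¹ := by rw [this]
        _ = z * y := by group
    have hA := h.max_ab (Subgroup.closure s)
      (fun v hv => Subgroup.subset_closure (Or.inl hv))
      (((Subgroup.closure_le _).mpr hs).trans inf_le_left) ?_ ?_
    · obtain ⟨b, hb, hb1⟩ := exists_ne_one (h.conj g).ne_bot
      refine hb1 (h.conj_inter hne hb ?_)
      rw [← hA]
      exact Subgroup.subset_closure (Or.inr ⟨1, N.one_mem, by rwa [one_mul]⟩)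
    · have h1 : Subgroup.closure s ≤ Subgroup.centralizer s :=
        (Subgroup.closure_le _).mpr fun y hy z hz => hcomm z hz y hy
      have h2 : Subgroup.closure s ≤ Subgroup.centralizer (Subgroup.closure s : Set G) :=
        (Subgroup.closure_le _).mpr fun y hy z hz => (h1 hz y hy).symm
      exact fun a ha b hb => h2 hb a ha
    · intro m hm a ha
      have hle' : Subgroup.closure s ≤ cj m⁻¹ (Subgroup.closure s) := by
        rw [Subgroup.closure_le]
        intro y hy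
        rw [SetLike.mem_coe, mem_cj, inv_inv]
        refine Subgroup.subset_closure ?_
        rcases hy with hy | ⟨n, hn, hy⟩
        · exact Or.inl ((Subgroup.mem_normalizer_iff.mp hm y).mp hy)
        · refine Or.inr ⟨m * n, N.mul_mem hm hn, ?_⟩
          rw [mul_assoc, ← cj_cj]
          exact conj_mem_cj hy
      simpa using mem_cj.mp (hle' ha)
  · push Not at hc
    obtain ⟨m, hm, a₀, ha₀, b₀, hb₀, hab⟩ := hc
    have hA := h.conj_le_pc (hx m hm).1 (hx m hm).2
    have hB := h.conj_le_pc hne hle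
    refine ⟨m * g, (hx m hm).1, (hx m hm).2, fun a ha ha1 b hb hb1 e => hab ?_⟩
    have h1 := h.cent_of_commute hne hle (hA ha) hb hb1 e
    have h2 : ⁅b₀, a₀⁆ = 1 := by
      refine h.cent_of_commute (hx m hm).1 (hx m hm).2 (hB hb₀) ha ha1 ?_ a₀ ha₀
      rw [h.comm_symm (hB hb₀) (hA ha)]
      exact h1 b₀ hb₀
    exact (commutatorElement_eq_one_iff_commute.mp h2).symm

end Good

/-- A good pair together with a conjugate of `V` in `Q`. -/
structure Rel (V Q : Subgroup G) (g : G) : Prop where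
  good : Good V Q
  ne : cj g V ≠ V
  le : cj g V ≤ Q

/-- Two conjugates of `V` in `Q` no nontrivial elements of which commute. -/
structure Tri (V Q : Subgroup G) (g x : G) : Prop where
  relB : Rel V Q g
  relA : Rel V Q x
  nc : ∀ a ∈ cj x V, a ≠ 1 → ∀ b ∈ cj g V, b ≠ 1 → ⁅a, b⁆ ≠ 1

namespace Rel

variable {V Q : Subgroup G} {g : G}

theorem le_pc [Finite G] (r : Rel V Q g) : cj g V ≤ pc V Q := r.good.conj_le_pc r.ne r.le

theorem exists_tri [Finite G] (r : Rel V Q g) : ∃ x, Tri V Q g x := by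
  obtain ⟨x, h1, h2, h3⟩ := r.good.exists_tri r.ne r.le
  exact ⟨x, r, ⟨r.good, h1, h2⟩, h3⟩

end Rel

namespace Tri

variable {V Q : Subgroup G} {g x : G}

theorem swap [Finite G] (t : Tri V Q g x) : Tri V Q x g where
  relB := t.relA
  relA := t.relB
  nc := fun a ha ha1 b hb hb1 e => t.nc b hb hb1 a ha ha1 (by
    rw [t.relB.good.comm_symm (t.relA.le_pc hb) (t.relB.le_pc ha), e])

theorem surj [Finite G] (t : Tri V Q g x) {b : G} (hb : b ∈ cj g V) (hb1 : b ≠ 1) {v : G}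
    (hv : v ∈ V) : ∃ a ∈ cj x V, ⁅a, b⁆ = v := by
  obtain ⟨a₀, ha₀, ha₀1⟩ := exists_ne_one (t.relA.good.conj x).ne_bot
  obtain ⟨a, ha, e⟩ := t.relA.good.exists_comm_eq t.relA.ne t.relA.le (t.relB.le_pc hb) ha₀
    (fun e => t.nc a₀ ha₀ ha₀1 b hb hb1 (by
      rw [t.relA.good.comm_symm (t.relA.le_pc ha₀) (t.relB.le_pc hb), e])) v hv
  exact ⟨a, ha, by rw [t.relA.good.comm_symm (t.relA.le_pc ha) (t.relB.le_pc hb), e]⟩

theorem surj' [Finite G] (t : Tri V Q g x) {a : G} (ha : a ∈ cj x V) (ha1 : a ≠ 1) {v : G}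
    (hv : v ∈ V) : ∃ b ∈ cj g V, ⁅a, b⁆ = v := by
  obtain ⟨b, hb, e⟩ := t.swap.surj ha ha1 hv
  exact ⟨b, hb, by rw [t.relA.good.comm_symm (t.relA.le_pc ha) (t.relB.le_pc hb), e]⟩

theorem inj [Finite G] (t : Tri V Q g x) {a b b' : G} (ha : a ∈ cj x V) (ha1 : a ≠ 1)
    (hb : b ∈ cj g V) (hb' : b' ∈ cj g V) (e : ⁅a, b⁆ = ⁅a, b'⁆) : b = b' := by
  have h := t.relB.good
  by_contra hne
  refine t.nc a ha ha1 (b⁻¹ * b') ((cj g V).mul_mem ((cj g V).inv_mem hb) hb') ?_ ?_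
  · exact fun e1 => hne (inv_mul_eq_one.mp e1)
  · have h1 := h.comm_mul_right (t.relA.le_pc ha) (t.relB.le_pc hb)
      (mul_mem (inv_mem (t.relB.le_pc hb)) (t.relB.le_pc hb'))
    rw [mul_inv_cancel_left, e] at h1
    exact mul_eq_left.mp h1.symm

/-- `Q ⊓ C(V) = A C(B)`. -/
theorem decomp [Finite G] (t : Tri V Q g x) {p : G} (hp : p ∈ pc V Q) :
    ∃ a ∈ cj x V, ∀ b ∈ cj g V, ⁅p, b⁆ = ⁅a, b⁆ := by
  have h := t.relB.good
  obtain ⟨b₀, hb₀, hb₀1⟩ := exists_ne_one (h.conj g).ne_bot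
  have hb₀' := t.relB.le_pc hb₀
  obtain ⟨a, ha, e⟩ := t.surj hb₀ hb₀1 (h.comm_mem hp hb₀')
  have ha' := t.relA.le_pc ha
  refine ⟨a, ha, fun b hb => ?_⟩
  have hb' := t.relB.le_pc hb
  have hq : a⁻¹ * p ∈ pc V Q := mul_mem (inv_mem ha') hp
  have h0 : ⁅a⁻¹ * p, b₀⁆ = 1 := by
    have h1 := h.comm_mul_left ha' hq hb₀'
    rw [mul_inv_cancel_left, e] at h1
    exact mul_eq_left.mp h1.symm
  have h1 := h.comm_mul_left ha' hq hb'
  rw [mul_inv_cancel_left, h.cent_of_commute t.relB.ne t.relB.le hq hb₀ hb₀1 h0 b hb, mul_one] at h1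
  exact h1

/-- The centre of `C(B) ⊓ Q ⊓ C(V)` is `V B`. -/
theorem center_cent [Finite G] (t : Tri V Q g x) {e : G} (he : e ∈ pc V Q)
    (heB : ∀ b ∈ cj g V, ⁅e, b⁆ = 1)
    (hec : ∀ y ∈ pc V Q, (∀ b ∈ cj g V, ⁅y, b⁆ = 1) → ⁅e, y⁆ = 1) :
    ∃ v ∈ V, ∃ b ∈ cj g V, e = v * b := by
  have h := t.relB.good
  obtain ⟨a₀, ha₀, ha₀1⟩ := exists_ne_one (h.conj x).ne_bot
  have ha₀' := t.relA.le_pc ha₀
  obtain ⟨b, hb, hab⟩ := t.surj' ha₀ ha₀1 (h.comm_mem he ha₀')
  have hb' := t.relB.le_pc hb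
  refine ⟨e * b, ?_, b⁻¹, (cj g V).inv_mem hb, by group⟩
  have heb : e * b ∈ pc V Q := mul_mem he hb'
  have hA : ∀ a ∈ cj x V, ⁅e * b, a⁆ = 1 := by
    refine h.cent_of_commute t.relA.ne t.relA.le heb ha₀ ha₀1 ?_
    rw [h.comm_mul_left he hb' ha₀', h.comm_symm hb' ha₀', hab, h.sq _ (h.comm_mem he ha₀')]
  have hBB : ∀ b' ∈ cj g V, ⁅b, b'⁆ = 1 := fun b' hb' =>
    commutatorElement_eq_one_iff_commute.mpr ((h.conj g).comm hb hb')
  have hbB : ∀ b' ∈ cj g V, ⁅e * b, b'⁆ = 1 := fun b' hb'' => by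
    rw [h.comm_mul_left he hb' (t.relB.le_pc hb''), heB b' hb'', hBB b' hb'', one_mul]
  refine h.center_pc heb fun p hp => commutatorElement_eq_one_iff_commute.mp ?_
  obtain ⟨a, ha, hpa⟩ := t.decomp hp
  have ha' := t.relA.le_pc ha
  have hq : a⁻¹ * p ∈ pc V Q := mul_mem (inv_mem ha') hp
  have hqB : ∀ b' ∈ cj g V, ⁅a⁻¹ * p, b'⁆ = 1 := fun b' hb'' => by
    have h1 := h.comm_mul_left ha' hq (t.relB.le_pc hb'')
    rw [mul_inv_cancel_left, hpa b' hb''] at h1
    exact mul_eq_left.mp h1.symm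
  have hbq : ⁅b, a⁻¹ * p⁆ = 1 := by
    rw [h.comm_symm hb' hq]
    exact hqB b hb
  rw [show p = a * (a⁻¹ * p) by group, h.comm_mul_right heb ha' hq, hA a ha, one_mul,
    h.comm_mul_left he hb' hq, hec _ hq hqB, hbq, one_mul]

end Tri

end CfsgLib.KSteps.TIRadical
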