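import Cfsg.Agent.Lib.KSteps.TIRadical
import Mathlib.GroupTheory.SpecificGroups.Cyclic

/-!
If `B` is a conjugate of `V` inside the radical `Q` of `N(V)`, then `V` is inside the radical of
`N(B)`.
-/

set_option autoImplicit false

namespace CfsgLib.KSteps.TIRadical

open scoped commutatorElement

theorem eq_one_of_conj {G : Type*} [Group G] {y b : G} (e : y⁻¹ * b * y = 1) : b = 1 := by
  calc b = y * (y⁻¹ * b * y) * y⁻¹ := by group
    _ = 1 := by rw [e, mul_one, mul_inv_cancel]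

variable {G : Type*} [Group G]

/-- Two elementary abelian subgroups through `Z` containing all involutions of `P`. -/
structure Fork (Z P T₁ T₂ : Subgroup G) : Prop where
  le₁ : T₁ ≤ P
  le₂ : T₂ ≤ P
  sq₁ : ∀ t ∈ T₁, t * t = 1
  sq₂ : ∀ t ∈ T₂, t * t = 1
  inv : ∀ p ∈ P, p * p = 1 → p ∈ T₁ ∨ p ∈ T₂
  comm : ∀ t₁ ∈ T₁, ∀ t₂ ∈ T₂, Commute t₁ t₂ → t₁ ∈ Z ∨ t₂ ∈ Z
  gen : P ≤ T₁ ⊔ T₂
  ne₁ : ∃ t ∈ T₁, t ∉ Z
  ne₂ : ∃ t ∈ T₂, t ∉ Z
  two₁ : (∀ z ∈ Z, ∀ z' ∈ Z, z ≠ 1 → z' ≠ 1 → z = z') →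
    ∀ t ∈ T₁, ∀ t' ∈ T₁, t ∉ Z → t' ∉ Z → t⁻¹ * t' ∈ Z
  two₂ : (∀ z ∈ Z, ∀ z' ∈ Z, z ≠ 1 → z' ≠ 1 → z = z') →
    ∀ t ∈ T₂, ∀ t' ∈ T₂, t ∉ Z → t' ∉ Z → t⁻¹ * t' ∈ Z

namespace Fork

variable {Z P T₁ T₂ : Subgroup G}

theorem symm (F : Fork Z P T₁ T₂) : Fork Z P T₂ T₁ where
  le₁ := F.le₂
  le₂ := F.le₁
  sq₁ := F.sq₂
  sq₂ := F.sq₁
  inv := fun p hp e => (F.inv p hp e).symm
  comm := fun a ha b hb e => (F.comm b hb a ha e.symm).symm
  gen := sup_comm T₁ T₂ ▸ F.gen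
  ne₁ := F.ne₂
  ne₂ := F.ne₁
  two₁ := F.two₂
  two₂ := F.two₁

theorem conj (F : Fork Z P T₁ T₂) (x : G) : Fork (cj x Z) (cj x P) (cj x T₁) (cj x T₂) := by
  have hsq : ∀ T : Subgroup G, (∀ t ∈ T, t * t = 1) → ∀ t ∈ cj x T, t * t = 1 := by
    rintro T hT _ ⟨t, ht, rfl⟩
    rw [← map_mul, hT t ht, map_one]
  have hne : ∀ T : Subgroup G, (∃ t ∈ T, t ∉ Z) → ∃ t ∈ cj x T, t ∉ cj x Z := by
    rintro T ⟨t, ht, htZ⟩
    exact ⟨_, conj_mem_cj ht, fun h => htZ (by simpa [mul_assoc] using mem_cj.mp h)⟩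
  have htwo : ∀ T : Subgroup G, ((∀ z ∈ Z, ∀ z' ∈ Z, z ≠ 1 → z' ≠ 1 → z = z') →
      ∀ t ∈ T, ∀ t' ∈ T, t ∉ Z → t' ∉ Z → t⁻¹ * t' ∈ Z) →
      (∀ z ∈ cj x Z, ∀ z' ∈ cj x Z, z ≠ 1 → z' ≠ 1 → z = z') →
      ∀ t ∈ cj x T, ∀ t' ∈ cj x T, t ∉ cj x Z → t' ∉ cj x Z → t⁻¹ * t' ∈ cj x Z := by
    intro T hT hZ t ht t' ht' htZ ht'Z
    rw [mem_cj] at ht ht' htZ ht'Z ⊢
    have hZ' : ∀ z ∈ Z, ∀ z' ∈ Z, z ≠ 1 → z' ≠ 1 → z = z' := fun z hz z' hz' h1 h2 => by
      have := hZ _ (conj_mem_cj hz) _ (conj_mem_cj hz') (fun e => h1 (conj_eq_one_iff.mp e))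
        (fun e => h2 (conj_eq_one_iff.mp e))
      exact mul_left_cancel (mul_right_cancel this)
    have := hT hZ' _ ht _ ht' htZ ht'Z
    simpa [mul_assoc] using this
  refine ⟨Subgroup.map_mono F.le₁, Subgroup.map_mono F.le₂, hsq _ F.sq₁, hsq _ F.sq₂, ?_, ?_, ?_,
    hne _ F.ne₁, hne _ F.ne₂, htwo _ F.two₁, htwo _ F.two₂⟩
  · rintro _ ⟨p, hp, rfl⟩ e
    rw [← map_mul, ← map_one (MulAut.conj x).toMonoidHom] at e
    exact (F.inv p hp ((MulAut.conj x).injective e)).imp (fun h => ⟨p, h, rfl⟩) fun h => ⟨p, h, rfl⟩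
  · rintro _ ⟨a, ha, rfl⟩ _ ⟨b, hb, rfl⟩ e
    refine (F.comm a ha b hb ?_).imp (fun h => ⟨a, h, rfl⟩) fun h => ⟨b, h, rfl⟩
    exact (MulAut.conj x).injective (by simpa only [map_mul, MulEquiv.coe_toMonoidHom] using e.eq)
  · exact (Subgroup.map_mono F.gen).trans (Subgroup.map_sup _ _ _).le

theorem not_mem₂ (F : Fork Z P T₁ T₂) {t : G} (ht : t ∈ T₁) (htZ : t ∉ Z) : t ∉ T₂ :=
  fun h => htZ ((F.comm t ht t h (Commute.refl t)).elim id id)

/-- An element normalizing `P` fixes or exchanges the two subgroups. -/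
theorem fix_or_swap [Finite G] (F : Fork Z P T₁ T₂) {y : G} (hy : cj y P = P) :
    cj y T₁ = T₁ ∧ cj y T₂ = T₂ ∨ cj y T₁ = T₂ ∧ cj y T₂ = T₁ := by
  have hsub : ∀ T ≤ P, (∀ t ∈ T, t * t = 1) → T ≤ T₁ ∨ T ≤ T₂ := by
    intro T hTP hT
    by_contra hc
    simp only [SetLike.le_def, not_or, not_forall] at hc
    obtain ⟨⟨a, ha, ha1⟩, b, hb, hb2⟩ := hc
    have ha2 := (F.inv a (hTP ha) (hT a ha)).resolve_left ha1
    have hb1 := (F.inv b (hTP hb) (hT b hb)).resolve_right hb2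
    rcases F.inv _ (hTP (mul_mem ha hb)) (hT _ (mul_mem ha hb)) with h | h
    · exact ha1 (by simpa using T₁.mul_mem h (T₁.inv_mem hb1))
    · exact hb2 (by simpa using T₂.mul_mem (T₂.inv_mem ha2) h)
  have hcard : Nat.card ↥(cj y T₁) = Nat.card ↥T₁ ∧ Nat.card ↥(cj y T₂) = Nat.card ↥T₂ :=
    ⟨card_cj y T₁, card_cj y T₂⟩
  obtain ⟨F', hF'⟩ : ∃ F' : Fork (cj y Z) P (cj y T₁) (cj y T₂), True :=
    ⟨by simpa only [hy] using F.conj y, trivial⟩
  have hnotboth : ∀ T : Subgroup G, (∀ t ∈ T, t * t = 1) → cj y T₁ ≤ T → cj y T₂ ≤ T → False := by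
    intro T hT h1 h2
    obtain ⟨a, ha, haZ⟩ := F'.ne₁
    obtain ⟨b, hb, hbZ⟩ := F'.ne₂
    have hc : Commute a b := by
      have e : ∀ t ∈ T, t⁻¹ = t := fun t ht => inv_eq_of_mul_eq_one_right (hT t ht)
      have := e _ (T.mul_mem (h1 ha) (h2 hb))
      rw [mul_inv_rev, e _ (h1 ha), e _ (h2 hb)] at this
      exact this.symm
    exact (F'.comm a ha b hb hc).elim haZ hbZ
  have hcardle : ∀ T T' : Subgroup G, cj y T ≤ T' → Nat.card ↥T ≤ Nat.card ↥T' :=
    fun T T' h => (card_cj y T).ge.trans (Subgroup.card_le_of_le h)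
  rcases hsub _ F'.le₁ F'.sq₁ with h1 | h1 <;> rcases hsub _ F'.le₂ F'.sq₂ with h2 | h2
  · exact absurd (hnotboth T₁ F.sq₁ h1 h2) id
  · exact Or.inl ⟨Subgroup.eq_of_le_of_card_ge h1 hcard.1.ge,
      Subgroup.eq_of_le_of_card_ge h2 hcard.2.ge⟩
  · exact Or.inr ⟨Subgroup.eq_of_le_of_card_ge h1 ((hcardle _ _ h2).trans hcard.1.ge),
      Subgroup.eq_of_le_of_card_ge h2 ((hcardle _ _ h1).trans hcard.2.ge)⟩
  · exact absurd (hnotboth T₂ F.sq₂ h1 h2) id

end Fork

namespace Tri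

variable {V Q : Subgroup G} {g x : G}

/-- If `C(B) ⊓ Q ⊓ C(V)` is `V B`, then `V B` and `V A` form a fork. -/
theorem fork [Finite G] (t : Tri V Q g x)
    (h0 : ∀ e ∈ pc V Q, (∀ b ∈ cj g V, ⁅e, b⁆ = 1) → ∃ v ∈ V, ∃ b ∈ cj g V, e = v * b) :
    Fork V (pc V Q) (V ⊔ cj g V) (V ⊔ cj x V) := by
  have h := t.relB.good
  have hcB : ∀ v ∈ V, ∀ b ∈ cj g V, Commute v b := fun v hv b hb => h.commute_pc hv (t.relB.le_pc hb)
  have hcA : ∀ v ∈ V, ∀ a ∈ cj x V, Commute v a := fun v hv a ha => h.commute_pc hv (t.relA.le_pc ha)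
  have hsq : ∀ y : G, (∀ v ∈ V, ∀ b ∈ cj y V, Commute v b) → ∀ w ∈ V ⊔ cj y V, w * w = 1 := by
    intro y hy w hw
    obtain ⟨v, hv, b, hb, rfl⟩ := exists_mul_of_mem_sup hy hw
    rw [mul_assoc, ← mul_assoc b v b, ← (hy v hv b hb).eq, mul_assoc v b b, (h.conj y).sq b hb,
      mul_one, h.sq v hv]
  -- every element is a product `a * (v * b)`
  have hdec : ∀ p ∈ pc V Q, ∃ a ∈ cj x V, ∃ v ∈ V, ∃ b ∈ cj g V, p = a * (v * b) := by
    intro p hp
    obtain ⟨a, ha, hpa⟩ := t.decomp hp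
    have ha' := t.relA.le_pc ha
    have hq : a⁻¹ * p ∈ pc V Q := mul_mem (inv_mem ha') hp
    obtain ⟨v, hv, b, hb, e⟩ := h0 _ hq fun b hb => by
      have h1 := h.comm_mul_left ha' hq (t.relB.le_pc hb)
      rw [mul_inv_cancel_left, hpa b hb] at h1
      exact mul_eq_left.mp h1.symm
    exact ⟨a, ha, v, hv, b, hb, by rw [← e, mul_inv_cancel_left]⟩
  have htwo : ∀ y : G, cj y V ≠ V → (∀ v ∈ V, ∀ b ∈ cj y V, Commute v b) →
      (∀ z ∈ V, ∀ z' ∈ V, z ≠ 1 → z' ≠ 1 → z = z') →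
      ∀ s ∈ V ⊔ cj y V, ∀ s' ∈ V ⊔ cj y V, s ∉ V → s' ∉ V → s⁻¹ * s' ∈ V := by
    intro y _ hy hz s hs s' hs' hsV hs'V
    obtain ⟨v, hv, b, hb, rfl⟩ := exists_mul_of_mem_sup hy hs
    obtain ⟨v', hv', b', hb', rfl⟩ := exists_mul_of_mem_sup hy hs'
    have hb1 : b ≠ 1 := fun e => hsV (by rwa [e, mul_one])
    have hb'1 : b' ≠ 1 := fun e => hs'V (by rwa [e, mul_one])
    have hbb : b = b' := by
      rw [mem_cj] at hb hb'
      have := hz _ hb _ hb' (fun e => hb1 (eq_one_of_conj e))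
        (fun e => hb'1 (eq_one_of_conj e))
      exact mul_left_cancel (mul_right_cancel this)
    subst hbb
    rw [(hy v' hv' b hb).eq, mul_inv_rev, mul_assoc, ← mul_assoc v⁻¹,
      (hy v⁻¹ (V.inv_mem hv) b hb).eq, mul_assoc b, inv_mul_cancel_left]
    exact V.mul_mem (V.inv_mem hv) hv'
  refine ⟨sup_le h.le_pc t.relB.le_pc, sup_le h.le_pc t.relA.le_pc, hsq g hcB, hsq x hcA,
    ?_, ?_, ?_, ?_, ?_, htwo g t.relB.ne hcB, htwo x t.relA.ne hcA⟩
  · intro p hp hp2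
    obtain ⟨a, ha, v, hv, b, hb, rfl⟩ := hdec p hp
    have hab : ⁅a, b⁆ = 1 := by
      have ca := (hcA v hv a ha).eq
      have cb := (hcB v hv b hb).eq
      have ia : a⁻¹ = a := (h.conj x).inv_eq ha
      have ib : b⁻¹ = b := (h.conj g).inv_eq hb
      rw [commutatorElement_def, ia, ib]
      calc a * b * a * b = a * b * a * (v * v) * b := by rw [h.sq v hv, mul_one]
        _ = a * b * (a * v) * (v * b) := by group
        _ = a * b * (v * a) * (v * b) := by rw [ca]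
        _ = a * (b * v) * (a * (v * b)) := by group
        _ = a * (v * b) * (a * (v * b)) := by rw [cb]
        _ = 1 := hp2
    rcases eq_or_ne a 1 with rfl | ha1
    · left
      rw [one_mul]
      exact Subgroup.mul_mem_sup hv hb
    · right
      have hb1 : b = 1 := by
        by_contra hb1
        exact t.nc a ha ha1 b hb hb1 hab
      rw [hb1, mul_one]
      exact mul_mem (Subgroup.mem_sup_right ha) (Subgroup.mem_sup_left hv)
  · intro t₁ h₁ t₂ h₂ hc
    obtain ⟨v, hv, b, hb, rfl⟩ := exists_mul_of_mem_sup hcB h₁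
    obtain ⟨v', hv', a, ha, rfl⟩ := exists_mul_of_mem_sup hcA h₂
    rcases eq_or_ne b 1 with rfl | hb1
    · exact Or.inl (by rwa [mul_one])
    rcases eq_or_ne a 1 with rfl | ha1
    · exact Or.inr (by rwa [mul_one])
    exfalso
    refine t.nc a ha ha1 b hb hb1 (commutatorElement_eq_one_iff_commute.mpr ?_)
    have hb' := t.relB.le_pc hb
    have ha' := t.relA.le_pc ha
    have c1 : Commute b (v' * a) := by
      have h2 : Commute v (v' * a) := (h.comm hv hv').mul_right (hcA v hv a ha)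
      have h3 := (h2.inv_left).mul_left hc
      rwa [inv_mul_cancel_left] at h3
    have h4 := ((hcB v' hv' b hb).symm.inv_right).mul_right c1
    rw [inv_mul_cancel_left] at h4
    exact h4.symm
  · intro p hp
    obtain ⟨a, ha, v, hv, b, hb, rfl⟩ := hdec p hp
    exact mul_mem (Subgroup.mem_sup_right (Subgroup.mem_sup_right ha))
      (Subgroup.mem_sup_left (Subgroup.mul_mem_sup hv hb))
  · obtain ⟨b, hb, hb1⟩ := exists_ne_one (h.conj g).ne_bot
    exact ⟨b, Subgroup.mem_sup_right hb, fun e => hb1 (h.conj_inter t.relB.ne hb e)⟩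
  · obtain ⟨b, hb, hb1⟩ := exists_ne_one (h.conj x).ne_bot
    exact ⟨b, Subgroup.mem_sup_right hb, fun e => hb1 (h.conj_inter t.relA.ne hb e)⟩

end Tri

namespace Rel

variable {V Q : Subgroup G} {g : G}

/-- The conjugate of `Q ⊓ C(V)`. -/
theorem cj_pc (g : G) (V Q : Subgroup G) : cj g (pc V Q) = pc (cj g V) (cj g Q) := by
  ext y
  rw [mem_cj, Subgroup.mem_inf, Subgroup.mem_inf, mem_cj, Subgroup.mem_centralizer_iff,
    Subgroup.mem_centralizer_iff]
  refine and_congr_right fun _ => ⟨fun h v hv => ?_, fun h v hv => ?_⟩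
  · have := h _ (mem_cj.mp hv)
    calc v * y = g * ((g⁻¹ * v * g) * (g⁻¹ * y * g)) * g⁻¹ := by group
      _ = g * ((g⁻¹ * y * g) * (g⁻¹ * v * g)) * g⁻¹ := by rw [this]
      _ = y * v := by group
  · have := h _ (conj_mem_cj (x := g) hv)
    calc v * (g⁻¹ * y * g) = g⁻¹ * ((g * v * g⁻¹) * y) * g := by group
      _ = g⁻¹ * (y * (g * v * g⁻¹)) * g := by rw [this]
      _ = g⁻¹ * y * g * v := by group

theorem symm_of (r : Rel V Q g) (h : V ≤ cj g Q) : Rel (cj g V) (cj g Q) g⁻¹ where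
  good := r.good.conj g
  ne := by rw [cj_inv_cj]; exact r.ne.symm
  le := by rw [cj_inv_cj]; exact h

/-- If a commutator of an element of `C(B) ⊓ cj g Q` with an element of `V` is a nontrivial
element of `B`, then `V ≤ cj g Q`. -/
theorem move [Finite G] (r : Rel V Q g) {s u : G} (hs : s ∈ pc (cj g V) (cj g Q)) (hu : u ∈ V)
    (hsu : ⁅s, u⁆ ∈ cj g V) (hne : ⁅s, u⁆ ≠ 1) : V ≤ cj g Q := by
  have h := r.good
  obtain ⟨x, t⟩ := r.exists_tri
  set i := ⁅s, u⁆ with hi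
  have hu1 : u ≠ 1 := fun e => hne (by rw [hi, e, commutatorElement_one_right])
  obtain ⟨p, hpx, hpi⟩ := t.surj hsu hne hu
  have hp := t.relA.le_pc hpx
  have hw1 : u * i ≠ 1 := fun e => hu1 (h.eq_one_of_comm r.ne hsu hu e).1
  have hw2 : u * i ∈ cj p (cj g V) := by
    have := conj_mem_cj (x := p) hsu
    rwa [show p * i * p⁻¹ = ⁅p, i⁆ * i by simp only [commutatorElement_def]; group, hpi] at this
  have hw3 : u * i ∈ cj s V := by
    have := conj_mem_cj (x := s) hu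
    rw [show s * u * s⁻¹ = i * u by rw [hi]; simp only [commutatorElement_def]; group] at this
    rwa [(h.commute_pc hu (r.le_pc hsu)).eq]
  rw [cj_cj] at hw2
  have hQ := h.radical_eq (h.eq_of_mem hw3 hw2 hw1)
  -- so `B ≤ cj (p * g) Q`
  have hB : ∀ b ∈ cj g V, p⁻¹ * b * p ∈ cj g Q := by
    intro b hb
    have hc : Commute b s := (h.conj g).commute_pc hb hs
    have : b ∈ cj s Q := by
      rw [mem_cj, mul_assoc, hc.eq, inv_mul_cancel_left]
      exact r.le hb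
    rw [hQ, ← cj_cj] at this
    exact mem_cj.mp this
  intro v hv
  obtain ⟨b, hb, e⟩ := h.exists_comm_eq r.ne r.le (inv_mem hp) hsu (by
    intro e
    apply hu1
    rw [← hpi, commutatorElement_eq_one_iff_commute]
    exact (commutatorElement_eq_one_iff_commute.mp e).inv_left |> fun c => by rwa [inv_inv] at c) v hv
  rw [← e, commutatorElement_def, inv_inv]
  exact mul_mem (hB b hb) (inv_mem ((h.conj g).le hb))

/-- `V` is inside the radical of the normalizer of `B`. -/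
theorem le_conj [Finite G] (r : Rel V Q g) : V ≤ cj g Q := by
  by_contra hVR
  have h := r.good
  have hB := h.conj g
  set B := cj g V with hBdef
  set R := cj g Q with hRdef
  set S := pc B R with hSdef
  set NB := Subgroup.normalizer (B : Set G)
  -- `V` centralizes `B`
  have hVB : ∀ v ∈ V, ∀ b ∈ B, Commute v b := fun v hv b hb => h.commute_pc hv (r.le_pc hb)
  have hVN : ∀ v ∈ V, v ∈ NB := fun v hv => mem_normalizer_of_commute fun b hb => hVB v hv b hb
  have hN : ∀ s ∈ S, ∀ u ∈ V, ⁅s, u⁆ ∈ B → ⁅s, u⁆ = 1 := fun s hs u hu hsu => by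
    by_contra hne
    exact hVR (r.move hs hu hsu hne)
  have hdisj : ∀ v ∈ V, v ∈ R → v = 1 := by
    intro v hv hvR
    by_contra hv1
    have hvS : v ∈ S := ⟨hvR, fun b hb => (hVB v hv b hb).symm⟩
    refine hv1 (h.conj_inter r.ne (hB.center_pc hvS fun s hs => ?_) hv)
    exact (commutatorElement_eq_one_iff_commute.mp (hN s hs v hv (hB.comm_mem hs hvS))).symm
  have hSN : ∀ y ∈ NB, ∀ s ∈ S, y * s * y⁻¹ ∈ S := fun y hy s hs => hB.pc_normal hy hs
  have hcomS : ∀ y ∈ NB, ∀ s ∈ S, ⁅y, s⁆ ∈ S := fun y hy s hs => mul_mem (hSN y hy s hs) (inv_mem hs)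
  have hcomS' : ∀ y ∈ NB, ∀ s ∈ S, ⁅s, y⁆ ∈ S := fun y hy s hs => by
    rw [← commutatorElement_inv]
    exact inv_mem (hcomS y hy s hs)
  -- centralizing one nontrivial element of `V`
  have hone : ∀ s ∈ S, ∀ u ∈ V, u ≠ 1 → Commute s u → ∀ v ∈ V, Commute s v := by
    intro s hs u hu hu1 hsu v hv
    have e : cj s V = cj 1 V := h.eq_of_mem (w := u) (by
      rw [mem_cj, mul_assoc, ← hsu.eq, inv_mul_cancel_left]; exact hu) (by rwa [cj_one]) hu1
    rw [cj_one] at e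
    refine commutatorElement_eq_one_iff_commute.mp (hdisj _ ?_ (hcomS' v (hVN v hv) s hs).1)
    exact mul_mem (by rw [← e]; exact conj_mem_cj hv) (V.inv_mem hv)
  -- `⁅u, s⁆` centralizes `V`
  have hcc : ∀ u ∈ V, ∀ s ∈ S, ∀ v ∈ V, Commute ⁅u, s⁆ v := by
    intro u hu s hs
    rcases eq_or_ne u 1 with rfl | hu1
    · intro v _
      rw [commutatorElement_one_left]
      exact Commute.one_left v
    set e := ⁅u, s⁆ with he
    have heS : e ∈ S := hcomS u (hVN u hu) s hs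
    refine hone e heS u hu hu1 (commutatorElement_eq_one_iff_commute.mp (hN e heS u hu ?_))
    have h2 : ⁅e, u⁆ = e * e := by
      have hu2 := h.inv_eq hu
      calc ⁅e, u⁆ = e * (u * e⁻¹ * u⁻¹) := by rw [commutatorElement_def]; group
        _ = e * (u * s * u * s⁻¹ * (u⁻¹ * u⁻¹)) := by rw [he, commutatorElement_def]; group
        _ = e * e := by rw [hu2, h.sq u hu, mul_one, he, commutatorElement_def, hu2]
    rw [h2]
    exact hB.sq_mem heS
  have hcc' : ∀ u ∈ V, ∀ s ∈ S, ∀ v ∈ V, Commute ⁅s, u⁆ v := fun u hu s hs v hv => by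
    rw [← commutatorElement_inv]
    exact (hcc u hu s hs v hv).inv_left
  -- elements centralizing `S ⊓ C(V)` centralize `V`
  have hcrit : ∀ c ∈ S, (∀ w ∈ S, (∀ v ∈ V, Commute w v) → Commute c w) →
      ∀ v ∈ V, Commute c v := by
    intro c hc hcw u hu
    set e := ⁅u, c⁆ with he
    have heS : e ∈ S := hcomS u (hVN u hu) c hc
    have hue : u * c * u⁻¹ = e * c := by rw [he]; simp only [commutatorElement_def]; group
    -- `e` commutes with every element of `S ⊓ C(V)`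
    have hew : ∀ w ∈ S, (∀ v ∈ V, Commute w v) → ⁅e, w⁆ = 1 := by
      intro w hw hwV
      have h1 : ⁅u * c * u⁻¹, w⁆ = 1 := by
        have hwu : u * w * u⁻¹ = w := by rw [← (hwV u hu).eq, mul_inv_cancel_right]
        nth_rewrite 1 [← hwu]
        rw [← conjugate_commutatorElement,
          commutatorElement_eq_one_iff_commute.mpr (hcw w hw hwV)]
        group
      rw [hue, hB.comm_mul_left heS hc hw,
        commutatorElement_eq_one_iff_commute.mpr (hcw w hw hwV), mul_one] at h1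
      exact h1
    have heB : e ∈ B := by
      refine hB.center_pc heS fun s hs => commutatorElement_eq_one_iff_commute.mp ?_
      set f := ⁅u, s⁆ with hf
      have hfS : f ∈ S := hcomS u (hVN u hu) s hs
      have h1 : ⁅e * c, f * s⁆ = ⁅c, s⁆ := by
        rw [← hue, show f * s = u * s * u⁻¹ by rw [hf]; simp only [commutatorElement_def]; group,
          ← conjugate_commutatorElement, (hVB u hu _ (hB.comm_mem hc hs)).eq, mul_inv_cancel_right]
      rw [hB.comm_mul_left heS hc (mul_mem hfS hs), hB.comm_mul_right heS hfS hs,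
        hB.comm_mul_right hc hfS hs, hew f hfS (hcc u hu s hs), one_mul,
        commutatorElement_eq_one_iff_commute.mpr (hcw f hfS (hcc u hu s hs)), one_mul] at h1
      exact mul_eq_right.mp h1
    refine commutatorElement_eq_one_iff_commute.mp (hN c hc u hu ?_)
    rw [← commutatorElement_inv]
    exact B.inv_mem heB
  obtain ⟨x₀, t⟩ := r.exists_tri
  have hP0N : ∀ y ∈ pc V Q, (∀ b ∈ B, ⁅y, b⁆ = 1) → y ∈ NB := fun y _ hy =>
    mem_normalizer_of_commute fun b hb => commutatorElement_eq_one_iff_commute.mp (hy b hb)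
  -- commutators of `C(B) ⊓ P` with `S ⊓ C(V)` lie in `B`
  have hd : ∀ y ∈ pc V Q, (∀ b ∈ B, ⁅y, b⁆ = 1) → ∀ w ∈ S, (∀ v ∈ V, Commute w v) →
      ⁅y, w⁆ ∈ B := by
    intro y hy hyB w hw hwV
    have hyN := hP0N y hy hyB
    have hdS : ⁅y, w⁆ ∈ S := hcomS y hyN w hw
    have hwP : w ∈ Subgroup.normalizer (V : Set G) := mem_normalizer_of_commute hwV
    have hdP : ⁅y, w⁆ ∈ pc V Q := by
      rw [commutatorElement_def, mul_assoc y w, mul_assoc y]
      exact mul_mem hy (h.pc_normal hwP (inv_mem hy))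
    have hdB : ∀ b ∈ B, ⁅⁅y, w⁆, b⁆ = 1 := fun b hb =>
      commutatorElement_eq_one_iff_commute.mpr (hB.commute_pc hb hdS).symm
    obtain ⟨v, hv, b, hb, e⟩ := t.center_cent hdP hdB fun z hz hzB => by
      refine hdisj _ (h.comm_mem hdP hz) ?_
      exact (hcomS' z (hP0N z hz hzB) _ hdS).1
    have hvR : v ∈ R := by
      have : v = ⁅y, w⁆ * b⁻¹ := by rw [e, mul_inv_cancel_right]
      rw [this]
      exact mul_mem hdS.1 (inv_mem (hB.le hb))
    rw [e, hdisj v hv hvR, one_mul]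
    exact hb
  -- so commutators with `S` lie in `C(V)`
  have hxs : ∀ y ∈ pc V Q, (∀ b ∈ B, ⁅y, b⁆ = 1) → ∀ s ∈ S, ∀ v ∈ V, Commute ⁅y, s⁆ v := by
    intro y hy hyB s hs
    have hyN := hP0N y hy hyB
    refine hcrit _ (hcomS y hyN s hs) fun w hw hwV => ?_
    refine commutatorElement_eq_one_iff_commute.mp ?_
    set d := ⁅y, w⁆ with hd'
    have hdB : d ∈ B := hd y hy hyB w hw hwV
    have hdS : d ∈ S := hB.le_pc hdB
    have hes : ⁅y, s⁆ ∈ S := hcomS y hyN s hs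
    have hysd : ⁅⁅y, s⁆ * s, d⁆ = 1 :=
      commutatorElement_eq_one_iff_commute.mpr (hB.commute_pc hdB (mul_mem hes hs)).symm
    have h1 : ⁅⁅y, s⁆ * s, d * w⁆ = ⁅s, w⁆ := by
      rw [show ⁅y, s⁆ * s = y * s * y⁻¹ by simp only [commutatorElement_def]; group,
        show d * w = y * w * y⁻¹ by rw [hd']; simp only [commutatorElement_def]; group,
        ← conjugate_commutatorElement,
        (commutatorElement_eq_one_iff_commute.mp (hyB _ (hB.comm_mem hs hw))).eq,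
        mul_inv_cancel_right]
    rw [hB.comm_mul_right (mul_mem hes hs) hdS hw, hysd, one_mul, hB.comm_mul_left hes hs hw] at h1
    exact mul_eq_right.mp h1
  -- an element of `V` centralizing `S` is trivial
  have hVS : ∀ u ∈ V, (∀ s ∈ S, Commute u s) → u = 1 := fun u hu hc =>
    h.conj_inter r.ne (hB.cent_pc (hVN u hu) hc) hu
  -- `C(B) ⊓ P` has exponent two
  have hexp : ∀ y ∈ pc V Q, (∀ b ∈ B, ⁅y, b⁆ = 1) → y * y = 1 := by
    intro y hy hyB
    refine hVS _ (h.sq_mem hy) fun s hs => ?_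
    have hyN := hP0N y hy hyB
    set e := ⁅y, s⁆ with he
    have heS : e ∈ S := hcomS y hyN s hs
    have hd' := hd y hy hyB e heS (hxs y hy hyB s hs)
    have h2 : ⁅y * y, s⁆ = ⁅y, e⁆ * (e * e) := by
      rw [he]; simp only [commutatorElement_def]; group
    have h3 : ⁅s, y * y⁆ ∈ B := by
      rw [← commutatorElement_inv, h2]
      exact B.inv_mem (B.mul_mem hd' (hB.sq_mem heS))
    exact (commutatorElement_eq_one_iff_commute.mp (hN s hs _ (h.sq_mem hy) h3)).symm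
  have h0 : ∀ e ∈ pc V Q, (∀ b ∈ B, ⁅e, b⁆ = 1) → ∃ v ∈ V, ∃ b ∈ B, e = v * b := by
    intro e he heB
    refine t.center_cent he heB fun y hy hyB => ?_
    have hey : ∀ b ∈ B, ⁅e * y, b⁆ = 1 := fun b hb => by
      rw [h.comm_mul_left he hy (r.le_pc hb), heB b hb, hyB b hb, one_mul]
    rw [commutatorElement_def, inv_eq_of_mul_eq_one_right (hexp e he heB),
      inv_eq_of_mul_eq_one_right (hexp y hy hyB), mul_assoc (e * y)]
    exact hexp _ (mul_mem he hy) hey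
  -- two forks in `S`
  obtain ⟨T₁, T₂, F⟩ : ∃ T₁ T₂, Fork B S T₁ T₂ := ⟨_, _, cj_pc g V Q ▸ (t.fork h0).conj g⟩
  have hNS : ∀ y ∈ NB, cj y S = S := fun y hy => by
    refine Subgroup.eq_of_le_of_card_ge ?_ (card_cj y S).ge
    rintro _ ⟨s, hs, rfl⟩
    exact hSN y hy s hs
  -- no nontrivial element of `V` fixes both
  have hfix : ∀ u ∈ V, cj u T₁ = T₁ → cj u T₂ = T₂ → u = 1 := by
    intro u hu h1 h2
    have he1 : ∀ a ∈ T₁, ⁅u, a⁆ ∈ T₁ := fun a ha =>
      mul_mem (show u * a * u⁻¹ ∈ T₁ by rw [← h1]; exact conj_mem_cj ha) (inv_mem ha)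
    have he2 : ∀ a ∈ T₂, ⁅u, a⁆ ∈ T₂ := fun a ha =>
      mul_mem (show u * a * u⁻¹ ∈ T₂ by rw [← h2]; exact conj_mem_cj ha) (inv_mem ha)
    have hcommut : ∀ a ∈ T₁, ∀ b ∈ S, ⁅⁅u, a⁆ * a, ⁅u, b⁆ * b⁆ = ⁅a, b⁆ := fun a ha b hb => by
      rw [show ⁅u, a⁆ * a = u * a * u⁻¹ by simp only [commutatorElement_def]; group,
        show ⁅u, b⁆ * b = u * b * u⁻¹ by simp only [commutatorElement_def]; group,
        ← conjugate_commutatorElement, (hVB u hu _ (hB.comm_mem (F.le₁ ha) hb)).eq,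
        mul_inv_cancel_right]
    have hef : ∀ a ∈ T₁, ∀ b ∈ T₂, ⁅u, a⁆ ∈ B ∨ ⁅u, b⁆ ∈ B := by
      intro a ha b hb
      refine F.comm _ (he1 a ha) _ (he2 b hb) (commutatorElement_eq_one_iff_commute.mp ?_)
      have hfS := F.le₂ (he2 b hb)
      have e := hcommut a ha _ hfS
      rw [commutatorElement_eq_one_iff_commute.mpr (hcc u hu b (F.le₂ hb) u hu).symm, one_mul,
        hB.comm_mul_left (F.le₁ (he1 a ha)) (F.le₁ ha) hfS] at e
      exact mul_eq_right.mp e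
    have hside : ∀ {T T' : Subgroup G}, Fork B S T T' → (∀ a ∈ T', ⁅u, a⁆ ∈ T') →
        (∀ a ∈ T, ⁅u, a⁆ ∈ B) → u = 1 := by
      intro T T' F he' hT
      have hTu : ∀ a ∈ T, Commute u a := fun a ha => by
        refine (commutatorElement_eq_one_iff_commute.mp (hN a (F.le₁ ha) u hu ?_)).symm
        rw [← commutatorElement_inv]
        exact B.inv_mem (hT a ha)
      obtain ⟨a, ha, haB⟩ := F.ne₁
      have hT'u : ∀ b ∈ T', Commute u b := fun b hb => by
        refine (commutatorElement_eq_one_iff_commute.mp (hN b (F.le₂ hb) u hu ?_)).symm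
        rw [← commutatorElement_inv]
        refine B.inv_mem ((F.comm a ha _ (he' b hb) ?_).resolve_left haB)
        refine commutatorElement_eq_one_iff_commute.mp ?_
        have e : ⁅a, ⁅u, b⁆ * b⁆ = ⁅a, b⁆ := by
          have hua : u * a * u⁻¹ = a := by rw [(hTu a ha).eq, mul_inv_cancel_right]
          rw [show ⁅u, b⁆ * b = u * b * u⁻¹ by simp only [commutatorElement_def]; group]
          nth_rewrite 1 [← hua]
          rw [← conjugate_commutatorElement, (hVB u hu _ (hB.comm_mem (F.le₁ ha) (F.le₂ hb))).eq,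
            mul_inv_cancel_right]
        rw [hB.comm_mul_right (F.le₁ ha) (F.le₂ (he' b hb)) (F.le₂ hb)] at e
        exact mul_eq_right.mp e
      refine hVS u hu fun s hs => ?_
      have hle : T ⊔ T' ≤ Subgroup.centralizer {u} := sup_le
        (fun a ha => Subgroup.mem_centralizer_iff.mpr fun v hv => by
          rw [Set.mem_singleton_iff.mp hv]; exact (hTu a ha).eq)
        (fun a ha => Subgroup.mem_centralizer_iff.mpr fun v hv => by
          rw [Set.mem_singleton_iff.mp hv]; exact (hT'u a ha).eq)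
      exact Subgroup.mem_centralizer_iff.mp (hle (F.gen hs)) u rfl
    by_cases hall : ∀ a ∈ T₁, ⁅u, a⁆ ∈ B
    · exact hside F he2 hall
    · push Not at hall
      obtain ⟨a, ha, ha'⟩ := hall
      exact hside F.symm he1 fun b hb => (hef a ha b hb).resolve_left ha'
  have hswap : ∀ u ∈ V, u ≠ 1 → cj u T₁ = T₂ ∧ cj u T₂ = T₁ := fun u hu hu1 =>
    (F.fix_or_swap (hNS u (hVN u hu))).resolve_left fun hf => hu1 (hfix u hu hf.1 hf.2)
  -- so `V` and `B` have order two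
  have hV2 : ∀ z ∈ V, ∀ z' ∈ V, z ≠ 1 → z' ≠ 1 → z = z' := by
    intro z hz z' hz' h1 h2
    obtain ⟨e1, e2⟩ := hswap z hz h1
    obtain ⟨e1', e2'⟩ := hswap z' hz' h2
    have := hfix _ (V.mul_mem hz hz') (by rw [← cj_cj, e1', e2]) (by rw [← cj_cj, e2', e1])
    rw [mul_eq_one_iff_eq_inv, h.inv_eq hz'] at this
    exact this
  have hB2 : ∀ z ∈ B, ∀ z' ∈ B, z ≠ 1 → z' ≠ 1 → z = z' := by
    intro z hz z' hz' h1 h2
    have := hV2 _ (mem_cj.mp hz) _ (mem_cj.mp hz')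
      (fun e => h1 (eq_one_of_conj e))
      (fun e => h2 (eq_one_of_conj e))
    exact mul_left_cancel (mul_right_cancel this)
  -- so `N(B)` is a `2`-group
  have hBc : ∀ y ∈ NB, ∀ b ∈ B, y * b * y⁻¹ = b := by
    intro y hy b hb
    rcases eq_or_ne b 1 with rfl | hb1
    · simp
    exact hB2 _ ((Subgroup.mem_normalizer_iff.mp hy b).mp hb) b hb
      (fun e => hb1 (conj_eq_one_iff.mp e)) hb1
  have hcent : ∀ y ∈ NB, ∀ T T' : Subgroup G, Fork B S T T' → cj y T = T →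
      ∀ t ∈ T, Commute (y * y) t := by
    intro y hy T T' F hT t ht
    by_cases htB : t ∈ B
    · show y * y * t = t * (y * y)
      exact mul_inv_eq_iff_eq_mul.mp (hBc _ (mul_mem hy hy) t htB)
    have hyt : y * t * y⁻¹ ∈ T := by rw [← hT]; exact conj_mem_cj ht
    have hytB : y * t * y⁻¹ ∉ B := fun e => htB ((Subgroup.mem_normalizer_iff.mp hy t).mpr e)
    set c := t⁻¹ * (y * t * y⁻¹) with hc
    have hcB : c ∈ B := F.two₁ hB2 t ht _ hyt htB hytB
    have e1 : y * t * y⁻¹ = t * c := by rw [hc, mul_inv_cancel_left]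
    show y * y * t = t * (y * y)
    refine mul_inv_eq_iff_eq_mul.mp ?_
    calc y * y * t * (y * y)⁻¹ = y * (y * t * y⁻¹) * y⁻¹ := by group
      _ = y * (t * c) * y⁻¹ := by rw [e1]
      _ = (y * t * y⁻¹) * (y * c * y⁻¹) := by group
      _ = t * (c * c) := by rw [e1, hBc y hy c hcB]; group
      _ = t := by rw [hB.sq c hcB, mul_one]
  have hNB2 : IsPGroup 2 ↥NB := by
    intro y
    refine ⟨3, Subtype.ext ?_⟩
    rw [Subgroup.coe_pow, Subgroup.coe_one]
    set z := (y : G) * y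
    have hzN : z ∈ NB := mul_mem y.2 y.2
    have hzfix : cj z T₁ = T₁ ∧ cj z T₂ = T₂ := by
      rcases F.fix_or_swap (hNS _ y.2) with ⟨e1, e2⟩ | ⟨e1, e2⟩
      · exact ⟨by rw [← cj_cj, e1, e1], by rw [← cj_cj, e2, e2]⟩
      · exact ⟨by rw [← cj_cj, e1, e2], by rw [← cj_cj, e2, e1]⟩
    have hz2 : z * z ∈ B := by
      refine hB.cent_pc (mul_mem hzN hzN) fun s hs => ?_
      have hle : T₁ ⊔ T₂ ≤ Subgroup.centralizer {z * z} := sup_le
        (fun a ha => Subgroup.mem_centralizer_iff.mpr fun v hv => by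
          rw [Set.mem_singleton_iff.mp hv]; exact (hcent z hzN _ _ F hzfix.1 a ha).eq)
        (fun a ha => Subgroup.mem_centralizer_iff.mpr fun v hv => by
          rw [Set.mem_singleton_iff.mp hv]; exact (hcent z hzN _ _ F.symm hzfix.2 a ha).eq)
      exact Subgroup.mem_centralizer_iff.mp (hle (F.gen hs)) _ rfl
    have := hB.sq _ hz2
    rw [show (y : G) ^ 2 ^ 3 = z * z * (z * z) by
      simp only [z, show (2 : ℕ) ^ 3 = 8 from rfl, pow_succ, pow_zero, one_mul, mul_assoc]]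
    exact this
  obtain ⟨v, hv, hv1⟩ := exists_ne_one h.ne_bot
  exact hv1 (hdisj v hv (hB.max_two NB le_rfl hNB2
    (fun m hm k hk => NB.mul_mem (NB.mul_mem hm hk) (NB.inv_mem hm)) (hVN v hv)))

/-- The symmetric relation. -/
theorem symm [Finite G] (r : Rel V Q g) : Rel (cj g V) (cj g Q) g⁻¹ := r.symm_of r.le_conj

end Rel

end CfsgLib.KSteps.TIRadical
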