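import Mathlib.LinearAlgebra.Matrix.SpecialLinearGroup
import Mathlib.GroupTheory.QuotientGroup.Basic
import Mathlib.Tactic.Group
import Mathlib.Tactic.FieldSimp
import Mathlib.Tactic.Ring
import Mathlib.Tactic.LinearCombination

/-!
A group generated by two subgroups acting on `δ F × β F` by upper and lower unitriangular matrices
induces `SL₂ F`.
-/

set_option autoImplicit false

namespace CfsgLib.KSteps.SL2Action

open Matrix

variable {F : Type*} [Field F]

/-- The upper unitriangular matrix. -/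
def upper (l : F) : SpecialLinearGroup (Fin 2) F :=
  ⟨!![1, l; 0, 1], by simp [Matrix.det_fin_two]⟩

/-- The lower unitriangular matrix. -/
def lower (l : F) : SpecialLinearGroup (Fin 2) F :=
  ⟨!![1, 0; l, 1], by simp [Matrix.det_fin_two]⟩

theorem upper_mulVec (l : F) (v : Fin 2 → F) :
    (upper l : Matrix (Fin 2) (Fin 2) F).mulVec v = ![v 0 + l * v 1, v 1] := by
  ext i
  fin_cases i <;> simp [upper, Matrix.mulVec, dotProduct, Fin.sum_univ_two]

theorem lower_mulVec (l : F) (v : Fin 2 → F) :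
    (lower l : Matrix (Fin 2) (Fin 2) F).mulVec v = ![v 0, l * v 0 + v 1] := by
  ext i
  fin_cases i <;> simp [lower, Matrix.mulVec, dotProduct, Fin.sum_univ_two]

theorem top_of_upper_lower (K : Subgroup (SpecialLinearGroup (Fin 2) F)) (hU : ∀ l, upper l ∈ K)
    (hL : ∀ l, lower l ∈ K) : K = ⊤ := by
  have key : ∀ M : SpecialLinearGroup (Fin 2) F, M 1 0 ≠ 0 → M ∈ K := by
    intro M hc
    have hd := M.2
    rw [Matrix.det_fin_two] at hd
    have e : M = upper ((M 0 0 - 1) / M 1 0) * lower (M 1 0) * upper ((M 1 1 - 1) / M 1 0) := by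
      apply SpecialLinearGroup.ext
      intro i j
      rw [SpecialLinearGroup.coe_mul, SpecialLinearGroup.coe_mul]
      fin_cases i <;> fin_cases j <;>
        simp [upper, lower, Matrix.mul_apply, Fin.sum_univ_two] <;> field_simp <;> first
          | ring1
          | linear_combination hd
          | linear_combination -hd
    rw [e]
    exact K.mul_mem (K.mul_mem (hU _) (hL _)) (hU _)
  rw [Subgroup.eq_top_iff']
  intro M
  by_cases hc : M 1 0 = 0
  · have hd := M.2
    rw [Matrix.det_fin_two] at hd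
    have h1 : (lower (1 : F) * M : SpecialLinearGroup (Fin 2) F) 1 0 ≠ 0 := by
      rw [SpecialLinearGroup.coe_mul]
      simp [lower, Matrix.mul_apply, Fin.sum_univ_two, hc]
      intro ha
      simp [hc, ha] at hd
    simpa using K.mul_mem (K.inv_mem (hL 1)) (key _ h1)
  · exact key M hc

variable {G : Type*} [Group G]

/-- The quotient of `P ⊔ S` by the centralizer of `δ F · β F` is `SL₂ F`. -/
theorem sl2_quotient (δ β : F → G) (P S W : Subgroup G)
    (hinj : ∀ x y x' y', δ x * β y = δ x' * β y' → x = x' ∧ y = y')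
    (hW : ∀ w, w ∈ W ↔ ∃ x y, w = δ x * β y)
    (hP : ∀ p ∈ P, ∃ l, ∀ x y, p * (δ x * β y) * p⁻¹ = δ (x + l * y) * β y)
    (hS : ∀ s ∈ S, ∃ l, ∀ x y, s * (δ x * β y) * s⁻¹ = δ x * β (l * x + y))
    (hPs : ∀ l, ∃ p ∈ P, ∀ x y, p * (δ x * β y) * p⁻¹ = δ (x + l * y) * β y)
    (hSs : ∀ l, ∃ s ∈ S, ∀ x y, s * (δ x * β y) * s⁻¹ = δ x * β (l * x + y))
    [hN : ((Subgroup.centralizer (W : Set G)).subgroupOf (P ⊔ S)).Normal] :
    Nonempty (↥(P ⊔ S) ⧸ (Subgroup.centralizer (W : Set G)).subgroupOf (P ⊔ S) ≃*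
      SpecialLinearGroup (Fin 2) F) := by
  let η : (Fin 2 → F) → G := fun v => δ (v 0) * β (v 1)
  let Imp : G → SpecialLinearGroup (Fin 2) F → Prop := fun h M =>
    ∀ v, h * η v * h⁻¹ = η ((M : Matrix (Fin 2) (Fin 2) F).mulVec v)
  have hηinj : Function.Injective η := fun v w e => by
    obtain ⟨h0, h1⟩ := hinj _ _ _ _ e
    ext i
    fin_cases i
    · exact h0
    · exact h1
  have himp1 : Imp 1 1 := fun v => by simp
  have himpmul : ∀ h h' M M', Imp h M → Imp h' M' → Imp (h * h') (M * M') := fun h h' M M' e e' v => by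
    rw [SpecialLinearGroup.coe_mul, ← Matrix.mulVec_mulVec, ← e, ← e']
    group
  have himpinv : ∀ h M, Imp h M → Imp h⁻¹ M⁻¹ := fun h M e v => by
    have := e ((↑M⁻¹ : Matrix (Fin 2) (Fin 2) F).mulVec v)
    rw [Matrix.mulVec_mulVec, ← SpecialLinearGroup.coe_mul, mul_inv_cancel,
      SpecialLinearGroup.coe_one, Matrix.one_mulVec] at this
    rw [← this]
    group
  have huniq : ∀ h M M', Imp h M → Imp h M' → M = M' := fun h M M' e e' => by
    apply Subtype.ext
    refine Matrix.ext_of_mulVec_single fun i => ?_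
    exact hηinj ((e _).symm.trans (e' _))
  let KG : Subgroup G :=
    { carrier := {h | ∃ M, Imp h M}
      one_mem' := ⟨1, himp1⟩
      mul_mem' := by
        rintro a b ⟨M, hM⟩ ⟨M', hM'⟩
        exact ⟨_, himpmul _ _ _ _ hM hM'⟩
      inv_mem' := by
        rintro a ⟨M, hM⟩
        exact ⟨_, himpinv _ _ hM⟩ }
  have hall : P ⊔ S ≤ KG := by
    refine sup_le (fun p hp => ?_) fun s hs => ?_
    · obtain ⟨l, hl⟩ := hP p hp
      exact ⟨upper l, fun v => by simpa [η, upper_mulVec] using hl (v 0) (v 1)⟩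
    · obtain ⟨l, hl⟩ := hS s hs
      exact ⟨lower l, fun v => by simpa [η, lower_mulVec] using hl (v 0) (v 1)⟩
  choose Mf hMf using fun h : ↥(P ⊔ S) => (hall h.2 : ∃ M, Imp (h : G) M)
  let Θ : ↥(P ⊔ S) →* SpecialLinearGroup (Fin 2) F :=
    { toFun := Mf
      map_one' := huniq _ _ _ (hMf 1) himp1
      map_mul' := fun a b => huniq _ _ _ (hMf (a * b)) (himpmul _ _ _ _ (hMf a) (hMf b)) }
  have hsurj : Function.Surjective Θ := by
    rw [← MonoidHom.range_eq_top]
    refine top_of_upper_lower _ (fun l => ?_) fun l => ?_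
    · obtain ⟨p, hp, hl⟩ := hPs l
      exact ⟨⟨p, Subgroup.mem_sup_left hp⟩, huniq _ _ _ (hMf _) fun v => by
        simpa [η, upper_mulVec] using hl (v 0) (v 1)⟩
    · obtain ⟨s, hs, hl⟩ := hSs l
      exact ⟨⟨s, Subgroup.mem_sup_right hs⟩, huniq _ _ _ (hMf _) fun v => by
        simpa [η, lower_mulVec] using hl (v 0) (v 1)⟩
  have hker : Θ.ker = (Subgroup.centralizer (W : Set G)).subgroupOf (P ⊔ S) := by
    ext h
    rw [MonoidHom.mem_ker, Subgroup.mem_subgroupOf, Subgroup.mem_centralizer_iff]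
    constructor
    · intro e w hw
      obtain ⟨x, y, rfl⟩ := (hW w).mp hw
      have h1 := hMf h ![x, y]
      rw [show Mf h = 1 from e, SpecialLinearGroup.coe_one, Matrix.one_mulVec] at h1
      exact (mul_inv_eq_iff_eq_mul.mp (by simpa [η] using h1)).symm
    · intro e
      refine huniq _ _ _ (hMf h) fun v => ?_
      rw [SpecialLinearGroup.coe_one, Matrix.one_mulVec, ← e _ ((hW _).mpr ⟨_, _, rfl⟩),
        mul_inv_cancel_right]
  exact ⟨(QuotientGroup.quotientMulEquivOfEq hker.symm).trans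
    (QuotientGroup.quotientKerEquivOfSurjective Θ hsurj)⟩

end CfsgLib.KSteps.SL2Action
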