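import Cfsg.Agent.Lib.KSteps.TIRadicalFork
import Cfsg.Agent.Lib.KSteps.TIFamily
import Cfsg.Agent.Lib.KSteps.JordanField
import Cfsg.Agent.Lib.KSteps.TIRadicalSL2
import Mathlib.GroupTheory.Frattini
import Mathlib.Algebra.Group.TypeTags.Finite

/-!
The radical `Q` is special with centre `V`, and the two radicals induce `SL₂` on `V B`.
-/

set_option autoImplicit false

namespace CfsgLib.KSteps.TIRadical

open scoped commutatorElement

variable {G : Type*} [Group G] {V Q : Subgroup G} {g x : G}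

namespace Rel

theorem exists_upper [Finite G] (r : Rel V Q g) {v b : G} (hv : v ∈ V) (hv1 : v ≠ 1)
    (hb : b ∈ cj g V) : ∃ s ∈ pc (cj g V) (cj g Q), ⁅s, v⁆ = b := by
  obtain ⟨y, t⟩ := r.symm.exists_tri
  obtain ⟨s, hs, e⟩ := t.surj (b := v) (by rwa [cj_inv_cj]) hv1 hb
  exact ⟨s, t.relA.le_pc hs, e⟩

theorem mem_pc_symm [Finite G] (r : Rel V Q g) : V ≤ pc (cj g V) (cj g Q) := by
  have := r.symm.le_pc
  rwa [cj_inv_cj] at this

theorem comm_mem_conj [Finite G] (r : Rel V Q g) {s v : G} (hs : s ∈ pc (cj g V) (cj g Q))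
    (hv : v ∈ V) : ⁅s, v⁆ ∈ cj g V :=
  (r.good.conj g).comm_mem hs (r.mem_pc_symm hv)

end Rel

namespace Tri

/-- A conjugating element carrying `V` to `B`. -/
theorem exists_move [Finite G] (t : Tri V Q g x) {v b : G} (hv : v ∈ V) (hv1 : v ≠ 1)
    (hb : b ∈ cj g V) (hb1 : b ≠ 1) : ∃ k, k * v * k⁻¹ = b ∧ cj k V = cj g V := by
  obtain ⟨a, ha, hab⟩ := t.surj hb hb1 hv
  obtain ⟨s, hs, hsv⟩ := t.relB.exists_upper hv hv1 hb
  have e : a⁻¹ * s * v * (a⁻¹ * s)⁻¹ = b := by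
    have h1 : s * v * s⁻¹ = a * b * a⁻¹ := by
      rw [show s * v * s⁻¹ = ⁅s, v⁆ * v by simp only [commutatorElement_def]; group, hsv,
        show a * b * a⁻¹ = ⁅a, b⁆ * b by simp only [commutatorElement_def]; group, hab]
      exact (t.relB.good.commute_pc hv (t.relB.le_pc hb)).eq.symm
    calc a⁻¹ * s * v * (a⁻¹ * s)⁻¹ = a⁻¹ * (s * v * s⁻¹) * a := by group
      _ = b := by rw [h1]; group
  exact ⟨a⁻¹ * s, e, t.relB.good.eq_of_mem (by rw [← e]; exact conj_mem_cj hv) hb hb1⟩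

/-- `Q` centralizes `V`. -/
theorem le_pc_radical [Finite G] (t : Tri V Q g x) : Q ≤ pc V Q := by
  have h := t.relB.good
  have : Fact (Nat.Prime 2) := ⟨Nat.prime_two⟩
  obtain ⟨u, hu, hu1, hfix⟩ := exists_fixed_of_normalizes Q V h.two
    (h.two.to_le h.le) h.ne_bot
    fun q hq v hv => (Subgroup.mem_normalizer_iff.mp (h.le_normalizer hq) v).mp hv
  obtain ⟨b, hb, hb1⟩ := exists_ne_one (h.conj g).ne_bot
  intro q hq
  refine h.mem_pc.mpr ⟨hq, fun v hv => ?_⟩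
  rcases eq_or_ne v 1 with rfl | hv1
  · exact Commute.one_left q
  obtain ⟨k, hk, hkV⟩ := t.exists_move hu hu1 hb hb1
  obtain ⟨k', hk', hk'V⟩ := t.exists_move hv hv1 hb hb1
  have hn : k'⁻¹ * k ∈ Subgroup.normalizer (V : Set G) := by
    rw [mem_normalizer_iff_cj, ← cj_cj, hkV, ← hk'V, cj_inv_cj]
  have e : k'⁻¹ * k * u * (k'⁻¹ * k)⁻¹ = v := by
    calc k'⁻¹ * k * u * (k'⁻¹ * k)⁻¹ = k'⁻¹ * (k * u * k⁻¹) * k' := by group
      _ = v := by rw [hk, ← hk']; group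
  set n := k'⁻¹ * k
  have hq' := h.normal _ (inv_mem hn) q hq
  rw [inv_inv] at hq'
  show v * q = q * v
  rw [← e]
  calc n * u * n⁻¹ * q = n * (u * (n⁻¹ * q * n)) * n⁻¹ := by group
    _ = n * ((n⁻¹ * q * n) * u) * n⁻¹ := by rw [hfix _ hq']
    _ = q * (n * u * n⁻¹) := by group

/-- If `⁅a, ⁅s, v⁆⁆ = v` for one nontrivial `v`, then for all. -/
theorem pair [Finite G] (t : Tri V Q g x) {a s v : G} (ha : a ∈ cj x V)
    (hs : s ∈ pc (cj g V) (cj g Q)) (hv : v ∈ V) (hv1 : v ≠ 1) (e : ⁅a, ⁅s, v⁆⁆ = v) :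
    ∀ w ∈ V, ⁅a, ⁅s, w⁆⁆ = w := by
  have h := t.relB.good
  set b := ⁅s, v⁆ with hbdef
  have hb : b ∈ cj g V := t.relB.comm_mem_conj hs hv
  have h1 : v * b ∈ cj s V := by
    have := conj_mem_cj (x := s) hv
    rwa [show s * v * s⁻¹ = b * v by rw [hbdef]; simp only [commutatorElement_def]; group,
      ← (h.commute_pc hv (t.relB.le_pc hb)).eq] at this
  have h2 : v * b ∈ cj (a * g) V := by
    rw [← cj_cj]
    have := conj_mem_cj (x := a) hb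
    rwa [show a * b * a⁻¹ = ⁅a, b⁆ * b by simp only [commutatorElement_def]; group, e] at this
  have heq := h.eq_of_mem h1 h2 fun e1 => hv1 (h.eq_one_of_comm t.relB.ne hb hv e1).1
  intro w hw
  have hb' : ⁅s, w⁆ ∈ cj g V := t.relB.comm_mem_conj hs hw
  have h3 : w * ⁅s, w⁆ ∈ cj a (cj g V) := by
    rw [cj_cj, ← heq]
    have := conj_mem_cj (x := s) hw
    rwa [show s * w * s⁻¹ = ⁅s, w⁆ * w by simp only [commutatorElement_def]; group,
      ← (h.commute_pc hw (t.relB.le_pc hb')).eq] at this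
  obtain ⟨c, hc, hce⟩ := h3
  have hca : ⁅a, c⁆ ∈ V := h.comm_mem (t.relA.le_pc ha) (t.relB.le_pc hc)
  have hce' : ⁅a, c⁆ * c = w * ⁅s, w⁆ := by
    rw [← hce]
    simp only [commutatorElement_def, MulEquiv.coe_toMonoidHom, MulAut.conj_apply]
    group
  obtain ⟨e1, e2⟩ := h.mul_injective t.relB.ne hc hb' hca hw hce'
  rw [← e2, e1]

theorem exists_lower [Finite G] (t : Tri V Q g x) {a : G} (ha : a ∈ cj x V) (ha1 : a ≠ 1) :
    ∃ s ∈ pc (cj g V) (cj g Q), ∀ v ∈ V, ⁅a, ⁅s, v⁆⁆ = v := by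
  have h := t.relB.good
  obtain ⟨b, hb, hb1⟩ := exists_ne_one (h.conj g).ne_bot
  have hv : ⁅a, b⁆ ∈ V := h.comm_mem (t.relA.le_pc ha) (t.relB.le_pc hb)
  have hv1 := t.nc a ha ha1 b hb hb1
  obtain ⟨s, hs, e⟩ := t.relB.exists_upper hv hv1 hb
  exact ⟨s, hs, t.pair ha hs hv hv1 (by rw [e])⟩

theorem lower_cases [Finite G] (t : Tri V Q g x) {s : G} (hs : s ∈ pc (cj g V) (cj g Q)) :
    (∀ v ∈ V, ⁅s, v⁆ = 1) ∨ ∃ a ∈ cj x V, a ≠ 1 ∧ ∀ v ∈ V, ⁅a, ⁅s, v⁆⁆ = v := by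
  by_cases hall : ∀ v ∈ V, ⁅s, v⁆ = 1
  · exact Or.inl hall
  right
  push Not at hall
  obtain ⟨v, hv, hne⟩ := hall
  have hv1 : v ≠ 1 := fun e => hne (by rw [e, commutatorElement_one_right])
  obtain ⟨a, ha, e⟩ := t.surj (t.relB.comm_mem_conj hs hv) hne hv
  refine ⟨a, ha, ?_, t.pair ha hs hv hv1 e⟩
  rintro rfl
  exact hv1 (by rw [← e, commutatorElement_one_left])

/-- For `a₀, a ∈ A` nontrivial, the product `φ₀ φ_a⁻¹ φ₀` is some `φ_c`. -/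
theorem inverse [Finite G] (t : Tri V Q g x) {a₀ a : G} (ha₀ : a₀ ∈ cj x V) (ha₀1 : a₀ ≠ 1)
    (ha : a ∈ cj x V) (ha1 : a ≠ 1) :
    ∃ c ∈ cj x V, ∀ b ∈ cj g V, ∀ b' ∈ cj g V, ⁅a₀, b'⁆ = ⁅a, b⁆ → ⁅c, b'⁆ = ⁅a₀, b⁆ := by
  have h := t.relB.good
  obtain ⟨s, hs, hpair⟩ := t.exists_lower ha₀ ha₀1
  set n := a₀ * s * a₀ with hn
  have hVn : ∀ v ∈ V, n * v * n⁻¹ = ⁅s, v⁆ := by
    intro v hv
    have hβ := t.relB.comm_mem_conj hs hv
    have e1 : a₀ * v * a₀⁻¹ = v := by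
      rw [← (h.commute_pc hv (t.relA.le_pc ha₀)).eq, mul_inv_cancel_right]
    calc n * v * n⁻¹ = a₀ * (s * (a₀ * v * a₀⁻¹) * s⁻¹) * a₀⁻¹ := by rw [hn]; group
      _ = a₀ * (⁅s, v⁆ * v) * a₀⁻¹ := by rw [e1]; simp only [commutatorElement_def]; group
      _ = ⁅a₀, ⁅s, v⁆⁆ * ⁅s, v⁆ * (a₀ * v * a₀⁻¹) := by simp only [commutatorElement_def]; group
      _ = v * (⁅s, v⁆ * v) := by rw [hpair v hv, e1, mul_assoc]
      _ = v * (v * ⁅s, v⁆) := by rw [(h.commute_pc hv (t.relB.le_pc hβ)).eq]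
      _ = ⁅s, v⁆ := by rw [← mul_assoc, h.sq v hv, one_mul]
  have hBn : ∀ b ∈ cj g V, n * b * n⁻¹ = ⁅a₀, b⁆ := by
    intro b hb
    have hv : ⁅a₀, b⁆ ∈ V := h.comm_mem (t.relA.le_pc ha₀) (t.relB.le_pc hb)
    have hβ : ⁅s, ⁅a₀, b⁆⁆ = b :=
      t.inj ha₀ ha₀1 (t.relB.comm_mem_conj hs hv) hb (hpair _ hv)
    have e1 : a₀ * ⁅a₀, b⁆ * a₀⁻¹ = ⁅a₀, b⁆ := by
      rw [← (h.commute_pc hv (t.relA.le_pc ha₀)).eq, mul_inv_cancel_right]
    have e2 : s * b * s⁻¹ = b := by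
      rw [← ((h.conj g).commute_pc hb hs).eq, mul_inv_cancel_right]
    calc n * b * n⁻¹ = a₀ * (s * (a₀ * b * a₀⁻¹) * s⁻¹) * a₀⁻¹ := by rw [hn]; group
      _ = a₀ * ((s * ⁅a₀, b⁆ * s⁻¹) * (s * b * s⁻¹)) * a₀⁻¹ := by
        simp only [commutatorElement_def]; group
      _ = a₀ * (⁅s, ⁅a₀, b⁆⁆ * ⁅a₀, b⁆ * b) * a₀⁻¹ := by
        rw [e2, show s * ⁅a₀, b⁆ * s⁻¹ = ⁅s, ⁅a₀, b⁆⁆ * ⁅a₀, b⁆ by
          simp only [commutatorElement_def]; group]
      _ = a₀ * ⁅a₀, b⁆ * a₀⁻¹ := by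
        rw [hβ, ← (h.commute_pc hv (t.relB.le_pc hb)).eq, mul_assoc ⁅a₀, b⁆, (h.conj g).sq b hb,
          mul_one]
      _ = ⁅a₀, b⁆ := e1
  have himg : ∀ b ∈ cj g V, ∀ b' ∈ cj g V, ⁅a₀, b'⁆ = ⁅a, b⁆ →
      ⁅a₀, b⁆ * b' ∈ cj (n * a) (cj g V) := by
    intro b hb b' hb' e
    have hv : ⁅a, b⁆ ∈ V := h.comm_mem (t.relA.le_pc ha) (t.relB.le_pc hb)
    have h1 : ⁅s, ⁅a, b⁆⁆ = b' :=
      t.inj ha₀ ha₀1 (t.relB.comm_mem_conj hs hv) hb' (by rw [hpair _ hv, e])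
    have := conj_mem_cj (x := n * a) hb
    rwa [show n * a * b * (n * a)⁻¹ = (n * ⁅a, b⁆ * n⁻¹) * (n * b * n⁻¹) by
      simp only [commutatorElement_def]; group, hVn _ hv, hBn b hb, h1,
      ← (h.commute_pc (h.comm_mem (t.relA.le_pc ha₀) (t.relB.le_pc hb)) (t.relB.le_pc hb')).eq] at this
  obtain ⟨b₁, hb₁, hb₁1⟩ := exists_ne_one (h.conj g).ne_bot
  obtain ⟨b₁', hb₁', e₁⟩ := t.surj' ha₀ ha₀1 (h.comm_mem (t.relA.le_pc ha) (t.relB.le_pc hb₁))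
  have hb₁'1 : b₁' ≠ 1 := by
    rintro rfl
    rw [commutatorElement_one_right] at e₁
    exact t.nc a ha ha1 b₁ hb₁ hb₁1 e₁.symm
  have hv₁ : ⁅a₀, b₁⁆ ∈ V := h.comm_mem (t.relA.le_pc ha₀) (t.relB.le_pc hb₁)
  obtain ⟨c, hc, hcb⟩ := t.surj hb₁' hb₁'1 hv₁
  have heq : cj (n * a * g) V = cj (c * g) V := by
    refine h.eq_of_mem (w := ⁅a₀, b₁⁆ * b₁') ?_ ?_ fun e => hb₁'1 (h.eq_one_of_comm t.relB.ne hb₁' hv₁ e).2
    · rw [← cj_cj]
      exact himg b₁ hb₁ b₁' hb₁' e₁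
    · rw [← cj_cj, ← hcb, show ⁅c, b₁'⁆ * b₁' = c * b₁' * c⁻¹ by
        simp only [commutatorElement_def]; group]
      exact conj_mem_cj hb₁'
  refine ⟨c, hc, fun b hb b' hb' e => ?_⟩
  have h1 := himg b hb b' hb' e
  rw [cj_cj, heq, ← cj_cj] at h1
  obtain ⟨d, hd, hde⟩ := h1
  have hde' : ⁅c, d⁆ * d = ⁅a₀, b⁆ * b' := by
    rw [← hde]
    simp only [commutatorElement_def, MulEquiv.coe_toMonoidHom, MulAut.conj_apply]
    group
  obtain ⟨h2, h3⟩ := h.mul_injective t.relB.ne hd hb' (h.comm_mem (t.relA.le_pc hc) (t.relB.le_pc hd))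
    (h.comm_mem (t.relA.le_pc ha₀) (t.relB.le_pc hb)) hde'
  rw [← h3, h2]

/-- The field with `|V|` elements and coordinates on `V` and `B`. -/
theorem exists_coord [Finite G] (t : Tri V Q g x) :
    ∃ (F : Type) (_ : Field F) (_ : Fintype F) (δ β : F → G) (a : F → G),
      Fintype.card F = Nat.card ↥V ∧
      (∀ u, δ u ∈ V) ∧ (∀ u, β u ∈ cj g V) ∧ (∀ l, a l ∈ cj x V) ∧
      (∀ u w, δ (u + w) = δ u * δ w) ∧ (∀ u w, β (u + w) = β u * β w) ∧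
      Function.Injective δ ∧ Function.Injective β ∧
      (∀ v ∈ V, ∃ u, δ u = v) ∧ (∀ b ∈ cj g V, ∃ u, β u = b) ∧
      (∀ c ∈ cj x V, ∃ l, a l = c) ∧ (a 0 = 1) ∧
      ∀ l u, ⁅a l, β u⁆ = δ (l * u) := by
  classical
  have h := t.relB.good
  obtain ⟨a₀, ha₀, ha₀1⟩ := exists_ne_one (h.conj x).ne_bot
  obtain ⟨b₀, hb₀, hb₀1⟩ := exists_ne_one (h.conj g).ne_bot
  letI : CommGroup ↥V :=
    { (inferInstance : Group ↥V) with mul_comm := fun u v => Subtype.ext (h.comm u.2 v.2).eq }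
  let f₀ : ↥(cj g V) →* ↥V :=
    { toFun := fun b => ⟨⁅a₀, (b : G)⁆, h.comm_mem (t.relA.le_pc ha₀) (t.relB.le_pc b.2)⟩
      map_one' := Subtype.ext (commutatorElement_one_right _)
      map_mul' := fun a b => Subtype.ext
        (h.comm_mul_right (t.relA.le_pc ha₀) (t.relB.le_pc a.2) (t.relB.le_pc b.2)) }
  have hf₀ : Function.Bijective f₀ := by
    refine ⟨fun b b' e => Subtype.ext (t.inj ha₀ ha₀1 b.2 b'.2 (congrArg Subtype.val e)), fun v => ?_⟩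
    obtain ⟨b, hb, e⟩ := t.surj' ha₀ ha₀1 v.2
    exact ⟨⟨b, hb⟩, Subtype.ext e⟩
  let φ : ↥(cj g V) ≃* ↥V := MulEquiv.ofBijective f₀ hf₀
  have hφ : ∀ b, ((φ b : ↥V) : G) = ⁅a₀, (b : G)⁆ := fun b => rfl
  let Mt : (AddMonoid.End (Additive ↥V)) → G → Prop := fun f a =>
    ∀ b : ↥(cj g V), (((f (Additive.ofMul (φ b))).toMul : ↥V) : G) = ⁅a, (b : G)⁆
  haveI : Finite (AddMonoid.End (Additive ↥V)) :=
    Finite.of_injective (β := Additive ↥V → Additive ↥V) (fun f => ⇑f) DFunLike.coe_injective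
  have hext : ∀ f f' a, Mt f a → Mt f' a → f = f' := fun f f' a e e' => by
    refine DFunLike.ext _ _ fun v => ?_
    obtain ⟨b, hb⟩ := φ.surjective v.toMul
    have := (e b).trans (e' b).symm
    rw [hb] at this
    exact Additive.toMul.injective (Subtype.ext this)
  have hexists : ∀ a ∈ cj x V, ∃ f, Mt f a := by
    intro a ha
    let fa : ↥(cj g V) →* ↥V :=
      { toFun := fun b => ⟨⁅a, (b : G)⁆, h.comm_mem (t.relA.le_pc ha) (t.relB.le_pc b.2)⟩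
        map_one' := Subtype.ext (commutatorElement_one_right _)
        map_mul' := fun u b => Subtype.ext
          (h.comm_mul_right (t.relA.le_pc ha) (t.relB.le_pc u.2) (t.relB.le_pc b.2)) }
    refine ⟨MonoidHom.toAdditive (fa.comp φ.symm.toMonoidHom), fun b => ?_⟩
    show ((fa (φ.symm (φ b))) : G) = _
    rw [φ.symm_apply_apply]
    rfl
  have hsqV : ∀ f : AddMonoid.End (Additive ↥V), f + f = 0 := fun f => DFunLike.ext _ _ fun v =>
    Additive.toMul.injective (Subtype.ext (h.sq _ (f v).toMul.2))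
  let S : AddSubgroup (AddMonoid.End (Additive ↥V)) :=
    { carrier := {f | ∃ a ∈ cj x V, Mt f a}
      zero_mem' := ⟨1, (cj x V).one_mem, fun b => (commutatorElement_one_left _).symm⟩
      add_mem' := by
        rintro f f' ⟨a, ha, e⟩ ⟨a', ha', e'⟩
        refine ⟨a * a', (cj x V).mul_mem ha ha', fun b => ?_⟩
        rw [h.comm_mul_left (t.relA.le_pc ha) (t.relA.le_pc ha') (t.relB.le_pc b.2), ← e b, ← e' b]
        rfl
      neg_mem' := by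
        rintro f hf
        rwa [neg_eq_of_add_eq_zero_right (hsqV f)] }
  have hMt1 : Mt 1 a₀ := fun b => hφ b
  have hMne : ∀ f a, Mt f a → f ≠ 0 → a ≠ 1 := by
    rintro f _ e hf rfl
    exact hf (hext f 0 1 e fun b => (commutatorElement_one_left _).symm)
  have hS : Jordan.IsInvClosed S := by
    refine ⟨⟨a₀, ha₀, hMt1⟩, hsqV, ?_⟩
    rintro f ⟨a, ha, e⟩ hf
    obtain ⟨c, hc, hcab⟩ := t.inverse ha₀ ha₀1 ha (hMne f a e hf)
    obtain ⟨f', e'⟩ := hexists c hc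
    have hff : f' * f = 1 := by
      refine DFunLike.ext _ _ fun v => Additive.toMul.injective (Subtype.ext ?_)
      obtain ⟨b, hb⟩ := φ.surjective v.toMul
      obtain ⟨b', hb'⟩ := φ.surjective (f v).toMul
      have e1 : ⁅a₀, (b' : G)⁆ = ⁅a, (b : G)⁆ := by rw [← hφ, hb', ← e b, hb]; rfl
      have e2 := e' b'
      rw [hb', hcab b b.2 b' b'.2 e1, ← hφ, hb] at e2
      exact e2
    exact ⟨f', ⟨c, hc, e'⟩, hff, mul_eq_one_comm.mp hff⟩
  have hne : (1 : AddMonoid.End (Additive ↥V)) ≠ 0 := fun e => ha₀1 (by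
    by_contra h1
    have := hMt1 ⟨b₀, hb₀⟩
    rw [e] at this
    exact t.nc a₀ ha₀ h1 b₀ hb₀ hb₀1 this.symm)
  obtain ⟨F, iF, iFF, ι, hadd, hmul, hone, hinj, hmem⟩ := hS.exists_field hne
  choose af haf haf' using fun l : F => (hmem (ι l)).mpr ⟨l, rfl⟩
  let e₀ : Additive ↥V := Additive.ofMul (φ ⟨b₀, hb₀⟩)
  let dV : F → ↥V := fun u => (ι u e₀).toMul
  have hzero : ι 0 = 0 := by
    have := hadd 0 0
    rwa [add_zero, left_eq_add] at this
  have hdadd : ∀ u w, dV (u + w) = dV u * dV w := fun u w => by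
    show (ι (u + w) e₀).toMul = _
    rw [hadd]
    rfl
  have hdinj : Function.Injective dV := by
    intro u w e
    by_contra huw
    have h0 : dV (u - w) = 1 := by
      have h1 := hdadd (u - w) w
      rw [sub_add_cancel, e] at h1
      exact mul_eq_right.mp h1.symm
    have hd : ι (u - w) ≠ 0 := fun e0 => sub_ne_zero.mpr huw (hinj (e0.trans hzero.symm))
    have h1 := haf' (u - w) ⟨b₀, hb₀⟩
    rw [show (ι (u - w)) (Additive.ofMul (φ ⟨b₀, hb₀⟩)) = Additive.ofMul (dV (u - w)) from rfl,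
      h0] at h1
    exact t.nc _ (haf (u - w)) (hMne _ _ (haf' (u - w)) hd) b₀ hb₀ hb₀1 h1.symm
  have hdsurj : Function.Surjective dV := by
    intro v
    obtain ⟨a, ha, e⟩ := t.surj hb₀ hb₀1 v.2
    obtain ⟨f, hf⟩ := hexists a ha
    obtain ⟨l, hl⟩ := (hmem f).mp ⟨a, ha, hf⟩
    refine ⟨l, Subtype.ext ?_⟩
    show (((ι l e₀).toMul : ↥V) : G) = v
    rw [hl]
    exact (hf ⟨b₀, hb₀⟩).trans e
  refine ⟨F, iF, iFF, fun u => dV u, fun u => (φ.symm (dV u) : G), af, ?_, fun u => (dV u).2,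
    fun u => (φ.symm (dV u)).2, haf, fun u w => congrArg Subtype.val (hdadd u w),
    fun u w => by beta_reduce; rw [hdadd, map_mul]; rfl, fun u w e => hdinj (Subtype.ext e),
    fun u w e => hdinj (φ.symm.injective (Subtype.ext e)),
    fun v hv => (hdsurj ⟨v, hv⟩).imp fun u e => congrArg Subtype.val e, ?_, ?_, ?_, fun l u => ?_⟩
  · rw [← Nat.card_eq_fintype_card, Nat.card_congr (Equiv.ofBijective dV ⟨hdinj, hdsurj⟩)]
  · intro b hb
    obtain ⟨u, hu⟩ := hdsurj (φ ⟨b, hb⟩)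
    exact ⟨u, by beta_reduce; rw [hu, φ.symm_apply_apply]⟩
  · intro c hc
    obtain ⟨f, hf⟩ := hexists c hc
    obtain ⟨l, hl⟩ := (hmem f).mp ⟨c, hc, hf⟩
    refine ⟨l, ?_⟩
    by_contra hne'
    have hb₀' := t.relB.le_pc hb₀
    refine t.nc (af l * c⁻¹) ((cj x V).mul_mem (haf l) ((cj x V).inv_mem hc))
      (fun e => hne' (mul_inv_eq_one.mp e)) b₀ hb₀ hb₀1 ?_
    have h1 := haf' l ⟨b₀, hb₀⟩
    rw [hl, hf ⟨b₀, hb₀⟩] at h1
    have h2 := h.comm_mul_left (mul_mem (t.relA.le_pc (haf l)) (inv_mem (t.relA.le_pc hc)))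
      (t.relA.le_pc hc) hb₀'
    rw [inv_mul_cancel_right, ← h1] at h2
    exact mul_eq_right.mp h2.symm
  · by_contra h0
    have h1 := haf' 0 ⟨b₀, hb₀⟩
    rw [hzero] at h1
    exact t.nc _ (haf 0) h0 b₀ hb₀ hb₀1 h1.symm
  · have h1 := haf' l (φ.symm (dV u))
    rw [φ.apply_symm_apply] at h1
    rw [← h1]
    show (((ι l (ι u e₀)).toMul : ↥V) : G) = (((ι (l * u)) e₀).toMul : ↥V)
    rw [hmul]
    rfl

end Tri

namespace Rel

theorem mem_sup_iff [Finite G] (r : Rel V Q g) {w : G} :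
    w ∈ V ⊔ cj g V ↔ ∃ v ∈ V, ∃ b ∈ cj g V, w = v * b := by
  refine ⟨exists_mul_of_mem_sup fun v hv b hb => r.good.commute_pc hv (r.le_pc hb), ?_⟩
  rintro ⟨v, hv, b, hb, rfl⟩
  exact Subgroup.mul_mem_sup hv hb

/-- Every nontrivial element of `V B` lies in exactly one conjugate of `V` inside `V B`. -/
theorem exists_unique_conj [Finite G] (r : Rel V Q g) {w : G} (hw : w ∈ V ⊔ cj g V) (hw1 : w ≠ 1) :
    ∃! U : Subgroup G, (∃ y : G, U = cj y V) ∧ U ≤ V ⊔ cj g V ∧ w ∈ U := by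
  have h := r.good
  have huniq : ∀ U U' : Subgroup G, (∃ y : G, U = cj y V) → (∃ y : G, U' = cj y V) → w ∈ U → w ∈ U' →
      U = U' := by
    rintro _ _ ⟨y, rfl⟩ ⟨z, rfl⟩ h1 h2
    exact h.eq_of_mem h1 h2 hw1
  suffices hex : ∃ U : Subgroup G, (∃ y : G, U = cj y V) ∧ U ≤ V ⊔ cj g V ∧ w ∈ U by
    obtain ⟨U, h1, h2, h3⟩ := hex
    exact ⟨U, ⟨h1, h2, h3⟩, fun U' hU' => huniq _ _ hU'.1 h1 hU'.2.2 h3⟩
  obtain ⟨v, hv, b, hb, rfl⟩ := r.mem_sup_iff.mp hw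
  rcases eq_or_ne b 1 with rfl | hb1
  · exact ⟨V, ⟨1, (cj_one V).symm⟩, le_sup_left, by rwa [mul_one]⟩
  obtain ⟨x, t⟩ := r.exists_tri
  obtain ⟨a, ha, e⟩ := t.surj hb hb1 hv
  refine ⟨cj a (cj g V), ⟨a * g, cj_cj a g V⟩, ?_, ?_⟩
  · rintro _ ⟨b', hb', rfl⟩
    refine r.mem_sup_iff.mpr ⟨⁅a, b'⁆, h.comm_mem (t.relA.le_pc ha) (r.le_pc hb'), b', hb', ?_⟩
    simp only [commutatorElement_def, MulEquiv.coe_toMonoidHom, MulAut.conj_apply]
    group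
  · rw [← e, show ⁅a, b⁆ * b = a * b * a⁻¹ by simp only [commutatorElement_def]; group]
    exact conj_mem_cj hb

theorem pc_le_normalizer [Finite G] (r : Rel V Q g) :
    pc V Q ≤ Subgroup.normalizer ((V ⊔ cj g V : Subgroup G) : Set G) := by
  have key : ∀ p ∈ pc V Q, cj p (V ⊔ cj g V) ≤ V ⊔ cj g V := by
    rintro p hp _ ⟨w, hw, rfl⟩
    obtain ⟨v, hv, b, hb, rfl⟩ := r.mem_sup_iff.mp hw
    refine r.mem_sup_iff.mpr ⟨v * ⁅p, b⁆, V.mul_mem hv (r.good.comm_mem hp (r.le_pc hb)), b, hb, ?_⟩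
    have := (r.good.commute_pc hv hp).eq
    calc p * (v * b) * p⁻¹ = (p * v) * b * p⁻¹ := by group
      _ = (v * p) * b * p⁻¹ := by rw [this]
      _ = v * ⁅p, b⁆ * b := by simp only [commutatorElement_def]; group
  exact fun p hp => mem_normalizer_iff_cj.mpr
    (Subgroup.eq_of_le_of_card_ge (key p hp) (card_cj p _).ge)

theorem pc_sup_le_normalizer [Finite G] (r : Rel V Q g) :
    pc V Q ⊔ cj g (pc V Q) ≤ Subgroup.normalizer ((V ⊔ cj g V : Subgroup G) : Set G) := by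
  refine sup_le r.pc_le_normalizer ?_
  rw [Rel.cj_pc]
  have := r.symm.pc_le_normalizer
  rwa [cj_inv_cj, sup_comm] at this

/-- The group generated by the two radicals induces `SL₂` on `V B`. -/
theorem sl2 [Finite G] (r : Rel V Q g)
    (hN : ((Subgroup.centralizer ((V ⊔ cj g V : Subgroup G) : Set G)).subgroupOf
      (pc V Q ⊔ cj g (pc V Q))).Normal) :
    ∃ (F : Type) (_ : Field F) (_ : Fintype F), Fintype.card F = Nat.card ↥V ∧
      Nonempty (↥(pc V Q ⊔ cj g (pc V Q)) ⧸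
        (Subgroup.centralizer ((V ⊔ cj g V : Subgroup G) : Set G)).subgroupOf
          (pc V Q ⊔ cj g (pc V Q)) ≃* Matrix.SpecialLinearGroup (Fin 2) F) := by
  have h := r.good
  obtain ⟨x, t⟩ := r.exists_tri
  obtain ⟨F, iF, iFF, δ, β, a, hcard, hδ, hβ, ha, hδadd, hβadd, hδinj, hβinj, hδsurj, hβsurj,
    hasurj, ha0, hact⟩ := t.exists_coord
  refine ⟨F, iF, iFF, hcard, ?_⟩
  have hP : ∀ p ∈ pc V Q, ∀ c ∈ cj x V, (∀ b ∈ cj g V, ⁅p, b⁆ = ⁅c, b⁆) → ∀ l, a l = c →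
      ∀ u w, p * (δ u * β w) * p⁻¹ = δ (u + l * w) * β w := by
    intro p hp c hc hpc l hl u w
    have e1 := (h.commute_pc (hδ u) hp).eq
    calc p * (δ u * β w) * p⁻¹ = (p * δ u) * β w * p⁻¹ := by group
      _ = (δ u * p) * β w * p⁻¹ := by rw [e1]
      _ = δ u * ⁅p, β w⁆ * β w := by simp only [commutatorElement_def]; group
      _ = δ (u + l * w) * β w := by rw [hpc _ (hβ w), ← hl, hact, hδadd]
  have hS : ∀ s ∈ pc (cj g V) (cj g Q), ∀ l, (∀ u, ⁅s, δ u⁆ = β (l * u)) →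
      ∀ u w, s * (δ u * β w) * s⁻¹ = δ u * β (l * u + w) := by
    intro s hs l hl u w
    have e1 := ((h.conj g).commute_pc (hβ w) hs).eq
    calc s * (δ u * β w) * s⁻¹ = s * δ u * (β w * s⁻¹) := by group
      _ = s * δ u * (s⁻¹ * β w) := by
        rw [((h.conj g).commute_pc (hβ w) (inv_mem hs)).eq]
      _ = ⁅s, δ u⁆ * δ u * β w := by simp only [commutatorElement_def]; group
      _ = δ u * β (l * u + w) := by
        rw [hl, hβadd, ← (h.commute_pc (hδ u) (r.le_pc (hβ (l * u)))).eq, mul_assoc]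
  have hβ0 : β 0 = 1 := by
    have := hβadd 0 0
    rwa [add_zero, left_eq_mul] at this
  have hpair : ∀ s ∈ pc (cj g V) (cj g Q), ∀ l, l ≠ 0 → (∀ v ∈ V, ⁅a l, ⁅s, v⁆⁆ = v) →
      ∀ u, ⁅s, δ u⁆ = β (l⁻¹ * u) := by
    intro s hs l hl hsv u
    obtain ⟨z, hz⟩ := hβsurj _ (r.comm_mem_conj hs (hδ u))
    have := hsv _ (hδ u)
    rw [← hz, hact] at this
    rw [← hz, ← hδinj this, inv_mul_cancel_left₀ hl]
  revert hN
  rw [Rel.cj_pc]
  intro hN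
  refine SL2Action.sl2_quotient δ β _ _ _ (fun u w u' w' e => ?_) (fun w => ?_) ?_ ?_ ?_ ?_ (hN := hN)
  · obtain ⟨e1, e2⟩ := h.mul_injective r.ne (hβ w) (hβ w') (hδ u) (hδ u') e
    exact ⟨hδinj e1, hβinj e2⟩
  · rw [r.mem_sup_iff]
    constructor
    · rintro ⟨v, hv, b, hb, rfl⟩
      obtain ⟨u, rfl⟩ := hδsurj v hv
      obtain ⟨z, rfl⟩ := hβsurj b hb
      exact ⟨u, z, rfl⟩
    · rintro ⟨u, z, rfl⟩
      exact ⟨_, hδ u, _, hβ z, rfl⟩
  · intro p hp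
    obtain ⟨c, hc, hpc⟩ := t.decomp hp
    obtain ⟨l, hl⟩ := hasurj c hc
    exact ⟨l, hP p hp c hc hpc l hl⟩
  · intro s hs
    rcases t.lower_cases hs with h1 | ⟨c, hc, hc1, hsv⟩
    · exact ⟨0, hS s hs 0 fun u => by rw [zero_mul, hβ0, h1 _ (hδ u)]⟩
    · obtain ⟨l, rfl⟩ := hasurj c hc
      exact ⟨l⁻¹, hS s hs _ (hpair s hs l (fun e => hc1 (by rw [e, ha0])) hsv)⟩
  · intro l
    exact ⟨a l, t.relA.le_pc (ha l), hP _ (t.relA.le_pc (ha l)) _ (ha l) (fun _ _ => rfl) l rfl⟩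
  · intro l
    rcases eq_or_ne l 0 with rfl | hl
    · exact ⟨1, one_mem _, hS 1 (one_mem _) 0 fun u => by
        rw [zero_mul, hβ0, commutatorElement_one_left]⟩
    obtain ⟨b, hb, hb1⟩ := exists_ne_one (h.conj g).ne_bot
    have ha1 : a l⁻¹ ≠ 1 := by
      intro e
      obtain ⟨z, rfl⟩ := hβsurj b hb
      have := hact l⁻¹ z
      rw [e, commutatorElement_one_left] at this
      have hd0 : δ 0 = 1 := by
        have := hδadd 0 0
        rwa [add_zero, left_eq_mul] at this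
      have hz : l⁻¹ * z = 0 := hδinj (this.symm.trans hd0.symm)
      rcases mul_eq_zero.mp hz with h1 | h1
      · exact inv_ne_zero hl h1
      · exact hb1 (by rw [h1, hβ0])
    obtain ⟨s, hs, hsv⟩ := t.exists_lower (ha l⁻¹) ha1
    refine ⟨s, hs, hS s hs l fun u => ?_⟩
    rw [hpair s hs l⁻¹ (inv_ne_zero hl) hsv u, inv_inv]

/-- `Q` is special with centre, Frattini subgroup and commutator subgroup `V`. -/
theorem special [Finite G] (r : Rel V Q g) :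
    pc V Q = Q ∧ (frattini ↥Q).map Q.subtype = V ∧ (Subgroup.center ↥Q).map Q.subtype = V ∧
      (commutator ↥Q).map Q.subtype = V := by
  have h := r.good
  obtain ⟨x, t⟩ := r.exists_tri
  have hPQ : pc V Q = Q := le_antisymm inf_le_left t.le_pc_radical
  have hQP : ∀ q ∈ Q, q ∈ pc V Q := fun q hq => t.le_pc_radical hq
  obtain ⟨b₀, hb₀, hb₀1⟩ := exists_ne_one (h.conj g).ne_bot
  refine ⟨hPQ, le_antisymm ?_ ?_, ?_, le_antisymm ?_ ?_⟩
  · have hn : (V.subgroupOf Q).Normal := ⟨fun v hv q =>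
      (Subgroup.mem_normalizer_iff.mp (h.le_normalizer q.2) (v : G)).mp hv⟩
    have hsq : ∀ c : ↥Q ⧸ V.subgroupOf Q, c ^ 2 = 1 := by
      intro c
      obtain ⟨q, rfl⟩ := QuotientGroup.mk_surjective c
      rw [← QuotientGroup.mk_pow, QuotientGroup.eq_one_iff, Subgroup.mem_subgroupOf,
        Subgroup.coe_pow, pow_two]
      exact h.sq_mem (hQP q q.2)
    have hle := frattini_le_comap_frattini_of_surjective
      (φ := QuotientGroup.mk' (V.subgroupOf Q)) (QuotientGroup.mk'_surjective _)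
    rw [frattini_eq_bot_of_sq hsq, MonoidHom.comap_bot, QuotientGroup.ker_mk'] at hle
    rintro _ ⟨q, hq, rfl⟩
    exact hle hq
  · intro v hv
    obtain ⟨a, ha, e⟩ := t.surj hb₀ hb₀1 hv
    have ha' := (t.relA.le_pc ha).1
    have hb' := r.le hb₀
    refine ⟨(⟨a * b₀, Q.mul_mem ha' hb'⟩ : ↥Q) ^ 2, sq_mem_frattini h.two _, ?_⟩
    show (a * b₀) ^ 2 = v
    rw [← e, commutatorElement_def, (h.conj x).inv_eq ha, (h.conj g).inv_eq hb₀, pow_two]
    group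
  · refine le_antisymm ?_ fun v hv => ⟨⟨v, h.le hv⟩, ?_, rfl⟩
    · rintro _ ⟨z, hz, rfl⟩
      refine h.center_pc (hQP _ z.2) fun p hp => ?_
      exact (congrArg Subtype.val (Subgroup.mem_center_iff.mp hz ⟨p, hp.1⟩)).symm
    · exact Subgroup.mem_center_iff.mpr fun q => Subtype.ext
        (h.commute_pc hv (hQP q q.2)).eq.symm
  · rw [Subgroup.map_subtype_commutator, Subgroup.commutator_le]
    exact fun p hp q hq => h.comm_mem (hQP p hp) (hQP q hq)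
  · intro v hv
    obtain ⟨a, ha, e⟩ := t.surj hb₀ hb₀1 hv
    rw [Subgroup.map_subtype_commutator, ← e]
    exact Subgroup.commutator_mem_commutator (t.relA.le_pc ha).1 (r.le hb₀)

end Rel

end CfsgLib.KSteps.TIRadical
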